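/-
The elements generating the centraliser of `om0` (of order five) in the centraliser of the octad involution.

* `om0`, `gen k : cen`, `fused k`, `gen_comm`, `om0_pow_five`
* `comm_om_iff` : a monomial element commutes with `om0` iff it passes `commTest`
-/
import Cfsg.Agent.Lib.SuzSection.Mono
import Cfsg.Agent.Lib.J2Section.Data

set_option autoImplicit false
open Cfsg
open Cfsg.Agent.Leech
open Cfsg.Agent.Co2Centralizer (oct inv0 inv0_smul xiEl xiFun vec_xiEl invFun0)
open Cfsg.Agent.SuzSection (okD okD_iff monoD sgn monoF vec_monoD symm_toPerm monoF_single vec_inv0)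

namespace Cfsg.Agent.J2Section

/-! ### The elements -/

/-- The `k`-th monomial datum. -/
def md (k : ℕ) : ℕ × ℕ × ℕ := monoData.getD k (0, 0, 0)

theorem md_ok_fin : ∀ k : Fin 6, okD (md k.val) = true := by decide +kernel

theorem md_ok {k : ℕ} (h : k < 6) : okD (md k) = true := md_ok_fin ⟨k, h⟩

/-- The element of order five. -/
noncomputable def om0 : Co0 := monoD (md 0) * xiEl

/-- Its coordinate function. -/
def omF (x : GolayPt → ℤ) : GolayPt → ℤ := monoF (md 0) (xiFun x)

theorem vec_om0 (v : leechLattice) : ((om0 • v : leechLattice) : GolayPt → ℤ) = omF v := by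
  rw [om0, mul_smul, vec_monoD (md_ok (k := 0) (by norm_num)), vec_xiEl]
  rfl

/-- The three generators in Co0. -/
noncomputable def gen0 (k : Fin 3) : Co0 :=
  if k = 0 then om0 else if k = 1 then monoD (md 1) * xiEl * monoD (md 2) else monoD (md 3)

/-- Their coordinate functions. -/
def genF (k : Fin 3) (x : GolayPt → ℤ) : GolayPt → ℤ :=
  if k = 0 then omF x else if k = 1 then monoF (md 1) (xiFun (monoF (md 2) x)) else monoF (md 3) x

theorem vec_gen0 (k : Fin 3) (v : leechLattice) :
    ((gen0 k • v : leechLattice) : GolayPt → ℤ) = genF k v := by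
  unfold gen0 genF
  split_ifs
  · exact vec_om0 v
  · rw [mul_smul, mul_smul, vec_monoD (md_ok (k := 1) (by norm_num)), vec_xiEl, vec_monoD (md_ok (k := 2) (by norm_num))]
  · exact vec_monoD (md_ok (k := 3) (by norm_num)) v

/-- The two monomial elements moving the octad. -/
noncomputable def fused (k : Fin 2) : Co0 := monoD (md (4 + k.val))

theorem vec_fused (k : Fin 2) (v : leechLattice) :
    ((fused k • v : leechLattice) : GolayPt → ℤ) = monoF (md (4 + k.val)) v :=
  vec_monoD (md_ok (k := 4 + k.val) (by omega)) v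

/-- The images of `8 eᵢ` under the powers of the element of order five. -/
def powVec (k : ℕ) (j : GolayPt) : GolayPt → ℤ :=
  if k % 5 = 0 then Pi.single j 8
  else Co2Centralizer.ofList ((powData.getD (k % 5 - 1) []).getD (Golay.idx j) [])

theorem pow_check : ∀ (k : Fin 5) (j i : GolayPt), omF (powVec k.val j) i = powVec (k.val + 1) j i := by
  decide +kernel

theorem vec_om0_pow (j : GolayPt) : ∀ k ≤ 5,
    ((om0 ^ k • eightVec j : leechLattice) : GolayPt → ℤ) = powVec k j
  | 0, _ => by rw [pow_zero, one_smul, coe_eightVec]; rfl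
  | k + 1, h => by
    rw [pow_succ', mul_smul, vec_om0, vec_om0_pow j k (by omega)]
    exact funext (pow_check ⟨k, by omega⟩ j)

theorem om0_pow_five : om0 ^ 5 = 1 :=
  ext_frame fun j => Subtype.ext (by rw [vec_om0_pow j 5 le_rfl, one_smul, coe_eightVec]; rfl)

theorem gen_om_check : ∀ (k : Fin 3) (j i : GolayPt),
    genF k (omF (Pi.single j 8)) i = omF (genF k (Pi.single j 8)) i := by decide +kernel

theorem gen_comm (k : Fin 3) : gen0 k * om0 = om0 * gen0 k :=
  ext_frame fun j => Subtype.ext (funext fun i => by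
    simp only [mul_smul, vec_om0, vec_gen0, coe_eightVec]
    exact gen_om_check k j i)

theorem gen_inv_check : ∀ (k : Fin 3) (j i : GolayPt),
    genF k (invFun0 (Pi.single j 8)) i = invFun0 (genF k (Pi.single j 8)) i := by decide +kernel

theorem gen0_mem (k : Fin 3) : gen0 k ∈ Co1Centralizer.cen :=
  Co1Centralizer.mem_cen.2 (ext_frame fun j => Subtype.ext (funext fun i => by
    simp only [mul_smul, vec_inv0, vec_gen0, coe_eightVec]
    exact gen_inv_check k j i))

/-- The three generators. -/
noncomputable def gen (k : Fin 3) : Co1Centralizer.cen := ⟨gen0 k, gen0_mem k⟩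

theorem gen_zero_coe : ((gen 0 : Co1Centralizer.cen) : Co0) = om0 := by
  show gen0 0 = om0
  rw [gen0, if_pos rfl]

theorem om0_mem : om0 ∈ Co1Centralizer.cen := gen_zero_coe ▸ (gen 0).2

theorem om0_inv0 : om0 * inv0 = inv0 * om0 := Co1Centralizer.mem_cen.1 om0_mem

/-! ### Monomial elements commuting with `om0` -/

/-- An entry of twice the element of order five. -/
def entry (i j : ℕ) : ℤ :=
  if ((wTable.getD i (0, 0)).1).testBit j then 1 else if ((wTable.getD i (0, 0)).2).testBit j then -1 else 0

theorem omF_single : ∀ j i : GolayPt, omF (Pi.single j 8) i = 4 * entry (Golay.idx i) (Golay.idx j) ∧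
    omF (Pi.single j (-8)) i = -4 * entry (Golay.idx i) (Golay.idx j) := by decide +kernel

/-- The test for commuting with `om0`. -/
def commTest (t : ℕ × ℕ × ℕ) : Bool :=
  (List.range 24).all fun i => (List.range 24).all fun j =>
    sgn t.2.2 i * entry (Golay.fn t.2.1 i) j == entry i (Golay.fn t.1 j) * sgn t.2.2 (Golay.fn t.1 j)

theorem comm_om_iff {t : ℕ × ℕ × ℕ} (h : okD t = true) :
    monoD t * om0 = om0 * monoD t ↔ commTest t = true := by
  have hv := Golay.validPerm_of_isAut (okD_iff.1 h).1
  have key : ∀ j i : GolayPt,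
      (((monoD t * om0) • eightVec j : leechLattice) : GolayPt → ℤ) i =
        4 * (sgn t.2.2 (Golay.idx i) * entry (Golay.fn t.2.1 (Golay.idx i)) (Golay.idx j)) ∧
      (((om0 * monoD t) • eightVec j : leechLattice) : GolayPt → ℤ) i =
        4 * (entry (Golay.idx i) (Golay.fn t.1 (Golay.idx j)) * sgn t.2.2 (Golay.fn t.1 (Golay.idx j))) := by
    intro j i
    constructor
    · rw [mul_smul, vec_monoD h, vec_om0, coe_eightVec]
      simp only [monoF, (omF_single _ _).1, Golay.idx_pt ((okD_iff.1 h).2.2 _ (Golay.idx_lt i)).1]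
      ring
    · rw [mul_smul, vec_om0, vec_monoD h, coe_eightVec, monoF_single h, Golay.idx_toPerm hv]
      unfold sgn
      split_ifs
      · rw [neg_one_mul, (omF_single _ _).2, Golay.idx_toPerm hv]; ring
      · rw [one_mul, (omF_single _ _).1, Golay.idx_toPerm hv]; ring
  simp only [commTest, List.all_eq_true, List.mem_range, beq_iff_eq]
  constructor
  · intro e i hi j hj
    have h1 := (key (Golay.pt j) (Golay.pt i)).1
    rw [e, (key _ _).2, Golay.idx_pt hi, Golay.idx_pt hj] at h1
    omega
  · intro e
    refine ext_frame fun j => Subtype.ext (funext fun i => ?_)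
    rw [(key j i).1, (key j i).2, e _ (Golay.idx_lt i) _ (Golay.idx_lt j)]

theorem fused_comm (k : Fin 2) : fused k * om0 = om0 * fused k :=
  (comm_om_iff (md_ok (k := 4 + k.val) (by omega))).2
    ((by decide +kernel : ∀ k : Fin 2, commTest (md (4 + k.val)) = true) k)

end Cfsg.Agent.J2Section
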