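/-
The action of the centraliser of `om0` on the eight coordinates: it is generated by the images of the
three generators, and has order at most 300.

* `CH`, `genCH k`, `genSub`, `exists_genSub` (every element is a product of generators and an element of
  the kernel of `phi`)
* `natCard_phiCH_le`
-/
import Cfsg.Agent.Lib.SuzSection.Eight
import Cfsg.Agent.Lib.J2Section.Kernel

set_option autoImplicit false
open Cfsg
open Cfsg.Agent.Leech
open Cfsg.Agent.Co2Centralizer (inv0)
open Cfsg.Agent.Co1Centralizer (cen phi OGrp W toV bil QF)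
open Cfsg.Agent.SuzSection (combine bilN fromV fromV_spec bil_ap card_le_of_fibre)
open scoped Matrix

namespace Cfsg.Agent.J2Section

/-- The centraliser of `om0` in the centraliser of the involution. -/
noncomputable def CH : Subgroup cen := Subgroup.centralizer {gen 0}

theorem mem_CH {g : cen} : g ∈ CH ↔ (g : Co0) * om0 = om0 * (g : Co0) := by
  rw [CH, Subgroup.mem_centralizer_singleton_iff, Subtype.ext_iff, Subgroup.coe_mul, Subgroup.coe_mul,
    gen_zero_coe]

theorem gen_mem_CH (k : Fin 3) : gen k ∈ CH := mem_CH.2 (gen_comm k)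

/-- The subgroup generated by the three elements. -/
noncomputable def genSub : Subgroup cen := Subgroup.closure (Set.range gen)

theorem gen_mem_genSub (k : Fin 3) : gen k ∈ genSub := Subgroup.subset_closure ⟨k, rfl⟩

theorem genSub_le : genSub ≤ CH := (Subgroup.closure_le _).2 fun _ ⟨k, hk⟩ => hk ▸ gen_mem_CH k

/-- The product along a word. -/
noncomputable def wordEl (w : List ℕ) : cen := (w.map fun g => gen (Fin.ofNat 3 g)).prod

theorem wordEl_mem (w : List ℕ) : wordEl w ∈ genSub :=
  Subgroup.list_prod_mem _ fun _ hx => by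
    obtain ⟨g, -, rfl⟩ := List.mem_map.1 hx
    exact gen_mem_genSub _

/-! ### Coordinates as bit vectors -/

/-- The image of a bit vector under a generator. -/
def img8 (k : Fin 3) (n : ℕ) : ℕ := combine (mat8Data.getD k.val []) n

theorem gen_basis : ∀ (k : Fin 3) (j i : Fin 4 ⊕ Fin 4),
    Co1Centralizer.cz (genF k (Co1Centralizer.bv j)) i =
      toV ((mat8Data.getD k.val []).getD (Co1Centralizer.idx8 j) 0) i := by decide +kernel

theorem img8_check : ∀ (k : Fin 3) (n : Fin 256), img8 k n.val < 256 ∧ ∀ i,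
    (∑ j, toV ((mat8Data.getD k.val []).getD (Co1Centralizer.idx8 j) 0) i * toV n.val j) =
      toV (img8 k n.val) i := by decide +kernel

theorem ap_gen (k : Fin 3) {n : ℕ} (hn : n < 256) :
    Orth.ap (phi (gen k)) (toV n) = toV (img8 k n) := by
  funext i
  rw [Co1Centralizer.ap_phi, Matrix.mulVec, dotProduct, ← (img8_check k ⟨n, hn⟩).2 i]
  refine Finset.sum_congr rfl fun j _ => congrArg (· * toV n j) ?_
  show Co1Centralizer.czHom (Co1Centralizer.octMap (gen k) (Co1Centralizer.bOct j)) i = _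
  rw [Co1Centralizer.czHom_apply, Co1Centralizer.octMap_apply,
    show (((gen k : cen) : Co0) • Co2Centralizer.lift (Co1Centralizer.bOct j) : leechLattice).1 =
      genF k (Co1Centralizer.bv j) from vec_gen0 k _]
  exact gen_basis k j i

/-- The image of a bit vector under a word. -/
def imgW : List ℕ → ℕ → ℕ
  | [], n => n
  | g :: w, n => img8 (Fin.ofNat 3 g) (imgW w n)

theorem imgW_lt : ∀ (w : List ℕ) {n : ℕ}, n < 256 → imgW w n < 256
  | [], _, h => h
  | g :: w, _, h => (img8_check _ ⟨_, imgW_lt w h⟩).1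

theorem ap_word : ∀ (w : List ℕ) {n : ℕ}, n < 256 →
    Orth.ap (phi (wordEl w)) (toV n) = toV (imgW w n)
  | [], n, _ => by rw [wordEl, List.map_nil, List.prod_nil, map_one, Orth.ap_one]; rfl
  | g :: w, n, h => by
    rw [wordEl, List.map_cons, List.prod_cons, map_mul, Orth.ap_mul, ← wordEl, ap_word w h,
      ap_gen _ (imgW_lt w h)]
    rfl

/-- The image under a power of the element of order five. -/
def omk (k n : ℕ) : ℕ := imgW (List.replicate k 0) n

/-! ### The frame -/

/-- The `i`-th frame vector. -/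
def fr (i : ℕ) : ℕ := frame.getD i 0

theorem fr_lt : ∀ i < 2, fr i < 256 := by decide +kernel

theorem fr_frame : ∀ n : Fin 256,
    (∀ i < 2, ∀ k < 5, bilN n.val (omk k (fr i)) = 0) → n.val = 0 := by decide +kernel

/-- The possible images of a frame vector when the earlier ones are fixed. -/
def adm (l n : ℕ) : Bool :=
  decide (quadFormPlus 4 (ZMod 2) (toV n) = 1) && (List.range 5).all fun k =>
    decide (bilN n (omk k n) = bilN (fr l) (omk k (fr l))) && (List.range l).all fun i =>
      decide (bilN n (omk k (fr i)) = bilN (fr l) (omk k (fr i)))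

/-- The list of possible images at each level. -/
def levelList (l : ℕ) : List ℕ := fr l :: (orbitData.getD l []).map Prod.fst

theorem adm_cover : ∀ l < 2, ∀ n : Fin 256, adm l n.val = true → n.val ∈ levelList l := by decide +kernel

theorem level_length : (List.range 2).map (fun l => (levelList l).length) = [60, 5] := by
  decide +kernel

/-- The check of the certificates of one level. -/
def levelCheck (l : ℕ) : List (ℕ × ℕ × ℕ) → List ℕ → Bool
  | [], _ => true
  | (q, p, k) :: L, seen =>
    seen.contains p && decide (p < 256) && (imgW ((stabData.getD l []).getD k []) p == q) &&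
      (List.range l).all (fun i => imgW ((stabData.getD l []).getD k []) (fr i) == fr i) &&
        levelCheck l L (q :: seen)

theorem levelCheck_sound (l : ℕ) (P : ℕ → Prop)
    (hP : ∀ (p : ℕ) (w : List ℕ), p < 256 → (∀ i < l, imgW w (fr i) = fr i) → P p → P (imgW w p)) :
    ∀ L seen, levelCheck l L seen = true → (∀ n ∈ seen, P n) →
      ∀ n, (n ∈ seen ∨ n ∈ L.map Prod.fst) → P n
  | [], seen, _, h, n, hn => h n (by simpa using hn)
  | (q, p, k) :: L, seen, hc, h, n, hn => by
    simp only [levelCheck, Bool.and_eq_true, List.contains_iff_mem, decide_eq_true_eq, beq_iff_eq,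
      List.all_eq_true, List.mem_range] at hc
    obtain ⟨⟨⟨⟨h1, h2⟩, h3⟩, h4⟩, h5⟩ := hc
    refine levelCheck_sound l P hP L (q :: seen) h5 (fun m hm => ?_) n ?_
    · rcases List.mem_cons.1 hm with rfl | hm
      · exact h3 ▸ hP p _ h2 h4 (h p h1)
      · exact h m hm
    · rcases hn with hn | hn
      · exact Or.inl (List.mem_cons_of_mem _ hn)
      · rw [List.map_cons, List.mem_cons] at hn
        rcases hn with rfl | hn
        · exact Or.inl List.mem_cons_self
        · exact Or.inr hn

theorem levelCheck_data : ∀ l < 2, levelCheck l (orbitData.getD l []) [fr l] = true := by decide +kernel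

/-- Elements commuting with the element of order three and fixing the first `l` frame vectors. -/
noncomputable def H8 (l : ℕ) : Subgroup OGrp where
  carrier := {x | x * phi (gen 0) = phi (gen 0) * x ∧ ∀ i < l, Orth.ap x (toV (fr i)) = toV (fr i)}
  one_mem' := ⟨by rw [one_mul, mul_one], fun i _ => Orth.ap_one _⟩
  mul_mem' := by
    rintro a b ⟨ha, ha'⟩ ⟨hb, hb'⟩
    exact ⟨by rw [mul_assoc, hb, ← mul_assoc, ha, mul_assoc],
      fun i hi => by rw [Orth.ap_mul, hb' i hi, ha' i hi]⟩
  inv_mem' := by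
    rintro a ⟨ha, ha'⟩
    refine ⟨(Commute.inv_left ha).eq, fun i hi => ?_⟩
    conv_lhs => rw [← ha' i hi]
    rw [← Orth.ap_mul, inv_mul_cancel, Orth.ap_one]

theorem phi_mem_H8 {g : cen} (hg : g ∈ CH) : phi g ∈ H8 0 :=
  ⟨by
    rw [← map_mul, ← map_mul]
    exact congrArg phi (Subgroup.mem_centralizer_singleton_iff.1 hg), fun i hi => absurd hi (Nat.not_lt_zero i)⟩

theorem comm_word {x : OGrp} (hx : x * phi (gen 0) = phi (gen 0) * x) : ∀ k,
    x * phi (wordEl (List.replicate k 0)) = phi (wordEl (List.replicate k 0)) * x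
  | 0 => by rw [List.replicate_zero, wordEl, List.map_nil, List.prod_nil, map_one, mul_one, one_mul]
  | k + 1 => by
    rw [List.replicate_succ, wordEl, List.map_cons, List.prod_cons, map_mul, ← wordEl,
      show (Fin.ofNat 3 0 : Fin 3) = 0 from rfl, ← mul_assoc, hx, mul_assoc, comm_word hx k, mul_assoc]

theorem ap_omk {x : OGrp} (hx : x * phi (gen 0) = phi (gen 0) * x) {n m : ℕ} (hn : n < 256) (hm : m < 256)
    (h : Orth.ap x (toV n) = toV m) (k : ℕ) : Orth.ap x (toV (omk k n)) = toV (omk k m) := by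
  rw [omk, omk, ← ap_word _ hn, ← ap_word _ hm, ← Orth.ap_mul, comm_word hx, Orth.ap_mul, h]

theorem H8_two {x : OGrp} (hx : x ∈ H8 2) : x = 1 := by
  refine Orth.ext_ap fun v => ?_
  rw [Orth.ap_one]
  obtain ⟨h1, h2⟩ := fromV_spec (Orth.ap x v + v)
  have h3 : fromV (Orth.ap x v + v) = 0 := by
    refine fr_frame ⟨_, h1⟩ fun i hi k _ => ?_
    rw [bilN, h2, Co1Centralizer.bil_add]
    conv_lhs => arg 1; rw [← ap_omk hx.1 (fr_lt i hi) (fr_lt i hi) (hx.2 i hi) k, bil_ap]
    exact CharTwo.add_self_eq_zero _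
  rw [h3, show toV 0 = (0 : W) from funext fun i => by simp [Co1Centralizer.toV]] at h2
  funext i
  exact CharTwo.add_eq_zero.1 (congrFun h2.symm i)

theorem fromV_adm {l : ℕ} (hl : l < 2) {x : OGrp} (hx : x ∈ H8 l) :
    fromV (Orth.ap x (toV (fr l))) ∈ levelList l := by
  obtain ⟨h1, h2⟩ := fromV_spec (Orth.ap x (toV (fr l)))
  generalize fromV (Orth.ap x (toV (fr l))) = n at h1 h2 ⊢
  refine adm_cover l hl ⟨n, h1⟩ ?_
  have hq : quadFormPlus 4 (ZMod 2) (toV (fr l)) = 1 :=
    (by decide +kernel : ∀ l < 2, quadFormPlus 4 (ZMod 2) (toV (fr l)) = 1) l hl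
  simp only [adm, Bool.and_eq_true, decide_eq_true_eq, List.all_eq_true, List.mem_range, bilN]
  refine ⟨?_, fun k _ => ⟨?_, fun i hi => ?_⟩⟩
  · rw [h2]; exact (Orth.Q_ap (Q := QF) x _).trans hq
  · exact decide_eq_true <| (congrArg₂ bil h2 (ap_omk hx.1 (fr_lt l hl) h1 h2.symm k).symm).trans (bil_ap x _ _)
  · exact decide_eq_true <| (congrArg₂ bil h2
      (ap_omk hx.1 (fr_lt i (hi.trans hl)) (fr_lt i (hi.trans hl)) (hx.2 i hi) k).symm).trans (bil_ap x _ _)

theorem exists_genSub_eq (l : ℕ) (hl : l ≤ 2) {x : OGrp} (hx : x ∈ H8 l) :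
    ∃ g ∈ genSub, phi g = x := by
  induction d : 2 - l generalizing l x with
  | zero =>
    obtain rfl : l = 2 := by omega
    exact ⟨1, one_mem _, by rw [map_one, H8_two hx]⟩
  | succ d ih =>
    have hl4 : l < 2 := by omega
    obtain ⟨g, hg, hgH, hgv⟩ : ∃ g ∈ genSub, phi g ∈ H8 l ∧
        Orth.ap (phi g) (toV (fr l)) = Orth.ap x (toV (fr l)) := by
      have hm := fromV_adm hl4 hx
      rw [← (fromV_spec (Orth.ap x (toV (fr l)))).2]
      refine levelCheck_sound l (fun n => ∃ g ∈ genSub, phi g ∈ H8 l ∧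
        Orth.ap (phi g) (toV (fr l)) = toV n) ?_ _ _ (levelCheck_data l hl4) ?_ _ ?_
      · rintro p w hp hw ⟨g, hg, hgH, hgv⟩
        refine ⟨wordEl w * g, mul_mem (wordEl_mem w) hg, ?_, ?_⟩
        · rw [map_mul]
          refine mul_mem ⟨(phi_mem_H8 (genSub_le (wordEl_mem w))).1, fun i hi => ?_⟩ hgH
          rw [ap_word w (fr_lt i (hi.trans hl4)), hw i hi]
        · rw [map_mul, Orth.ap_mul, hgv, ap_word w hp]
      · intro n hn
        rw [List.mem_singleton] at hn
        exact ⟨1, one_mem _, by rw [map_one]; exact one_mem _, by rw [map_one, Orth.ap_one, hn]⟩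
      · rw [levelList, List.mem_cons] at hm
        exact hm.imp List.mem_singleton.2 id
    have hy : (phi g)⁻¹ * x ∈ H8 (l + 1) := by
      refine ⟨((inv_mem hgH).1 |> fun h => ?_), fun i hi => ?_⟩
      · rw [mul_assoc, hx.1, ← mul_assoc, h, mul_assoc]
      · rcases Nat.lt_succ_iff_lt_or_eq.1 hi with hi | rfl
        · rw [Orth.ap_mul, hx.2 i hi, (inv_mem hgH).2 i hi]
        · rw [Orth.ap_mul, ← hgv, ← Orth.ap_mul, inv_mul_cancel, Orth.ap_one]
    obtain ⟨g', hg', hg''⟩ := ih (l + 1) (by omega) hy (by omega)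
    exact ⟨g * g', mul_mem hg hg', by rw [map_mul, hg'', mul_inv_cancel_left]⟩

/-- Every element of `CH` is a product of generators and an element of the kernel of `phi`. -/
theorem exists_genSub {g : cen} (hg : g ∈ CH) : ∃ a ∈ genSub, a⁻¹ * g ∈ phi.ker := by
  obtain ⟨a, ha, h⟩ := exists_genSub_eq 0 (Nat.zero_le 2) (phi_mem_H8 hg)
  exact ⟨a, ha, by rw [MonoidHom.mem_ker, map_mul, map_inv, h, inv_mul_cancel]⟩

theorem natCard_H8_le (l : ℕ) (hl : l < 2) :
    Nat.card (H8 l) ≤ (levelList l).length * Nat.card (H8 (l + 1)) := by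
  refine card_le_of_fibre _ _ (fun x => fromV (Orth.ap x (toV (fr l)))) _ (fun x hx => fromV_adm hl hx)
    fun a ha b hb h => ?_
  have h' : Orth.ap a (toV (fr l)) = Orth.ap b (toV (fr l)) := by
    rw [← (fromV_spec (Orth.ap a (toV (fr l)))).2, h, (fromV_spec _).2]
  have hab := mul_mem (inv_mem ha) hb
  refine ⟨hab.1, fun i hi => ?_⟩
  rcases Nat.lt_succ_iff_lt_or_eq.1 hi with hi | rfl
  · exact hab.2 i hi
  · rw [Orth.ap_mul, ← h', ← Orth.ap_mul, inv_mul_cancel, Orth.ap_one]

theorem natCard_phiCH_le : Nat.card (CH.map phi) ≤ 300 := by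
  have h : CH.map phi ≤ H8 0 := fun x ⟨g, hg, e⟩ => e ▸ phi_mem_H8 hg
  refine (Subgroup.card_le_of_le h).trans ?_
  have h2 : Nat.card (H8 2) = 1 := by
    rw [show H8 2 = ⊥ from eq_bot_iff.2 fun x hx => Subgroup.mem_bot.2 (H8_two hx), Subgroup.card_bot]
  have e := level_length
  simp only [List.range_succ, List.range_zero, List.nil_append, List.cons_append, List.map_cons,
    List.map_nil, List.cons.injEq, and_true] at e
  obtain ⟨e0, e1⟩ := e
  have a0 := natCard_H8_le 0 (by norm_num)
  have a1 := natCard_H8_le 1 (by norm_num)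
  rw [e0] at a0
  rw [e1, h2] at a1
  simp only [Nat.reduceAdd] at a0 a1
  omega

end Cfsg.Agent.J2Section
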