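/-
The action `theta` of `CH` on the four coordinates of `QS`.

* `theta`, `theta_c4`, `omegaEquiv`, `range_theta` (`= Ω⁻(4, 2)`), `mem_ker_theta`
-/
import Cfsg.Agent.Lib.SuzSection.Six
import Cfsg.Agent.Lib.J2Section.Eight
import Cfsg.Agent.S0824

set_option autoImplicit false
open Cfsg
open Cfsg.Agent.Leech
open Cfsg.Agent.Co2Centralizer (inv0)
open Cfsg.Agent.Co1Centralizer (cen phi negEl)
open Cfsg.Agent.SuzSection (pw pw_zero pw_one pw_comm pw_injective combine okD monoD monoF vec_monoD inv0_ne_one)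
open scoped Matrix

namespace Cfsg.Agent.J2Section

/-- The subgroup to be factored out. -/
noncomputable def AZ : Subgroup Co0 := Subgroup.zpowers om0 ⊔ Subgroup.center Co0

theorem negOne_mem_AZ : negOne ∈ AZ := Subgroup.mem_sup_right negOne_mem_center

theorem AZ_comm {g : Co0} (hg : g * om0 = om0 * g) {a : Co0} (ha : a ∈ AZ) : g * a = a * g := by
  have h : AZ ≤ Subgroup.centralizer {g} := sup_le
    (Subgroup.zpowers_le.2 (Subgroup.mem_centralizer_singleton_iff.2 hg.symm))
    fun z hz => Subgroup.mem_centralizer_singleton_iff.2 (Subgroup.mem_center_iff.1 hz g).symm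
  exact (Subgroup.mem_centralizer_singleton_iff.1 (h ha)).symm

theorem negEl_mem_CH : negEl ∈ CH :=
  mem_CH.2 (Subgroup.mem_center_iff.1 negOne_mem_center om0).symm

theorem mem_QS_of_ker {g : cen} (hg : g ∈ CH) (hk : g ∈ phi.ker) :
    (g : Co0) ∈ QS ∨ negOne * (g : Co0) ∈ QS := by
  have hnn : negOne * negOne = 1 := co0_ext fun v => by
    rw [mul_smul, negOne_smul, negOne_smul, neg_neg, one_smul]
  obtain ⟨σ, c, rfl | rfl⟩ := Co1Centralizer.mem_ker_phi_iff.1 hk
  · obtain ⟨n, hn⟩ := exists_qEl (σ := σ) (c := c) (mem_CH.1 hg)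
    exact Or.inl (hn ▸ qEl_mem n : Co2Centralizer.kerMono σ c ∈ QS)
  · refine Or.inr ?_
    show negOne * (negOne * Co2Centralizer.kerMono σ c) ∈ QS
    rw [← mul_assoc, hnn, one_mul]
    have h : Co2Centralizer.kerMono σ c * om0 = om0 * Co2Centralizer.kerMono σ c :=
      mem_CH.1 ((Subgroup.mul_mem_cancel_left CH negEl_mem_CH).1 hg)
    obtain ⟨n, hn⟩ := exists_qEl h
    exact hn ▸ qEl_mem n

/-! ### Conjugation by the generators -/

/-- The position of a conjugate of a basis element. -/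
def cIdx (k : Fin 3) (j : I4) : Fin 32 := Fin.ofNat 32 ((conjData.getD k.val []).getD (idx4 j) 0)

theorem conj_check : ∀ (k : Fin 3) (j : I4) (p i : GolayPt),
    genF k (monoF (qd (bIdx j)) (Pi.single p 8)) i = monoF (qd (cIdx k j)) (genF k (Pi.single p 8)) i := by
  decide +kernel

theorem conj_basis (k : Fin 3) (j : I4) : gen0 k * qEl (bIdx j) * (gen0 k)⁻¹ = qEl (cIdx k j) := by
  refine mul_inv_eq_iff_eq_mul.2 (ext_frame fun p => Subtype.ext (funext fun i => ?_))
  simp only [mul_smul, qEl, vec_gen0, vec_monoD (qd_ok _), coe_eightVec]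
  exact conj_check k j p i

theorem conj_gen_mem (k : Fin 3) {q : Co0} (hq : q ∈ QS) : gen0 k * q * (gen0 k)⁻¹ ∈ QS := by
  let S : Subgroup Co0 := QS ⊓ QS.comap (MulAut.conj (gen0 k)).toMonoidHom
  have hinv : inv0 ∈ S := Subgroup.mem_inf.2 ⟨inv0_mem_QS, by
    rw [Subgroup.mem_comap]
    show gen0 k * inv0 * (gen0 k)⁻¹ ∈ QS
    rw [Co1Centralizer.mem_cen.1 (gen0_mem k), mul_inv_cancel_right]
    exact inv0_mem_QS⟩
  have hv : ∀ v : V4, ∃ g ∈ S, c4 g = v := by
    intro v
    rw [← Finset.univ_sum_single v]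
    refine Finset.sum_induction _ (fun w => ∃ g ∈ S, c4 g = w) ?_ ⟨1, one_mem _, c4_one⟩ fun j _ => ?_
    · rintro _ _ ⟨a, ha, rfl⟩ ⟨b, hb, rfl⟩
      exact ⟨a * b, mul_mem ha hb, c4_mul ha.1 hb.1⟩
    · rcases (by decide : ∀ c : ZMod 2, c = 0 ∨ c = 1) (v j) with h | h
      · exact ⟨1, one_mem _, by rw [c4_one, h, Pi.single_zero]⟩
      · refine ⟨qEl (bIdx j), Subgroup.mem_inf.2 ⟨qEl_mem _, ?_⟩, by rw [c4_qEl, c4_basis, h]⟩
        rw [Subgroup.mem_comap]
        show gen0 k * qEl (bIdx j) * (gen0 k)⁻¹ ∈ QS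
        rw [conj_basis]
        exact qEl_mem _
  obtain ⟨g, hg, e⟩ := hv (c4 q)
  have h0 : c4 (g⁻¹ * q) = 0 := by
    have h1 := c4_mul hg.1 (mul_mem (inv_mem hg.1) hq)
    rw [mul_inv_cancel_left, e] at h1
    exact left_eq_add.1 h1
  have hS : q ∈ S := by
    rcases c4_eq_zero (mul_mem (inv_mem hg.1) hq) h0 with h | h
    · rwa [← inv_mul_eq_one.1 h]
    · rw [inv_mul_eq_iff_eq_mul.1 h]
      exact mul_mem hg hinv
  exact (Subgroup.mem_inf.1 hS).2

theorem conj_mem {g : cen} (hg : g ∈ CH) {q : Co0} (hq : q ∈ QS) :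
    (g : Co0) * q * (g : Co0)⁻¹ ∈ QS := by
  let N : Subgroup cen := (Subgroup.normalizer (QS : Set Co0)).comap cen.subtype
  suffices h : g ∈ N from (Subgroup.mem_normalizer_iff.1 h q).1 hq
  have hgen : genSub ≤ N := (Subgroup.closure_le _).2 (by
    rintro _ ⟨k, rfl⟩
    have hmap : QS.map (MulAut.conj (gen0 k)).toMonoidHom = QS := Subgroup.eq_of_le_of_card_ge
      (by rintro _ ⟨x, hx, rfl⟩; exact conj_gen_mem k hx)
      (Subgroup.card_map_of_injective (K := QS) (f := (MulAut.conj (gen0 k)).toMonoidHom)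
        (MulAut.conj (gen0 k)).injective).ge
    refine Subgroup.mem_normalizer_iff.2 fun x => ⟨fun hx => conj_gen_mem k hx, fun hx => ?_⟩
    rw [← hmap] at hx
    obtain ⟨y, hy, e⟩ := hx
    exact (MulAut.conj (gen0 k)).injective e ▸ hy)
  obtain ⟨a, ha, hk⟩ := exists_genSub hg
  have hneg : negEl ∈ N := Subgroup.center_le_normalizer _ negOne_mem_center
  have hkN : a⁻¹ * g ∈ N := by
    rcases mem_QS_of_ker (mul_mem (inv_mem (genSub_le ha)) hg) hk with h | h
    · exact Subgroup.le_normalizer h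
    · exact (Subgroup.mul_mem_cancel_left N hneg).1 (Subgroup.le_normalizer h : negEl * (a⁻¹ * g) ∈ N)
  rw [← mul_inv_cancel_left a g]
  exact mul_mem (hgen ha) hkN

/-! ### The action -/

theorem c4_inv {a : Co0} (ha : a ∈ QS) : c4 a⁻¹ = c4 a := by
  have h := c4_mul (inv_mem ha) ha
  rw [inv_mul_cancel, c4_one] at h
  exact funext fun i => (CharTwo.add_eq_zero.1 (congrFun h.symm i))

/-- A representative of a class. -/
noncomputable def rep (v : V4) : Co0 := (c4_surj v).choose

theorem rep_spec (v : V4) : rep v ∈ QS ∧ c4 (rep v) = v := (c4_surj v).choose_spec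

theorem c4_conj {g : cen} (hg : g ∈ CH) {q : Co0} (hq : q ∈ QS) :
    c4 ((g : Co0) * rep (c4 q) * (g : Co0)⁻¹) = c4 ((g : Co0) * q * (g : Co0)⁻¹) := by
  obtain ⟨hr, hr'⟩ := rep_spec (c4 q)
  have h0 : c4 ((rep (c4 q))⁻¹ * q) = 0 := by
    rw [c4_mul (inv_mem hr) hq, c4_inv hr, hr']
    exact funext fun i => CharTwo.add_self_eq_zero _
  rcases c4_eq_zero (mul_mem (inv_mem hr) hq) h0 with h | h
  · rw [inv_mul_eq_one.1 h]
  · conv_rhs => rw [inv_mul_eq_iff_eq_mul.1 h]
    rw [show (g : Co0) * (rep (c4 q) * inv0) * (g : Co0)⁻¹ =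
        ((g : Co0) * rep (c4 q) * (g : Co0)⁻¹) * ((g : Co0) * inv0 * (g : Co0)⁻¹) by group,
      Co1Centralizer.mem_cen.1 g.2, mul_inv_cancel_right, c4_mul (conj_mem hg hr) inv0_mem_QS, c4_inv0,
      add_zero]

/-- The action as a linear map. -/
noncomputable def lin (g : CH) : V4 →ₗ[ZMod 2] V4 :=
  (AddMonoidHom.mk' (fun v => c4 (((g : cen) : Co0) * rep v * ((g : cen) : Co0)⁻¹)) fun v w => by
    obtain ⟨hv, hv'⟩ := rep_spec v
    obtain ⟨hw, hw'⟩ := rep_spec w
    have e : c4 (((g : cen) : Co0) * rep (v + w) * ((g : cen) : Co0)⁻¹) =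
        c4 (((g : cen) : Co0) * (rep v * rep w) * ((g : cen) : Co0)⁻¹) := by
      rw [← c4_conj g.2 (mul_mem hv hw), c4_mul hv hw, hv', hw']
    rw [e, ← c4_mul (conj_mem g.2 hv) (conj_mem g.2 hw)]
    group).toZModLinearMap 2

theorem lin_c4 (g : CH) {q : Co0} (hq : q ∈ QS) :
    lin g (c4 q) = c4 (((g : cen) : Co0) * q * ((g : cen) : Co0)⁻¹) := c4_conj g.2 hq

/-- The matrix. -/
noncomputable def mat4 (g : CH) : Matrix I4 I4 (ZMod 2) := LinearMap.toMatrix' (lin g)

theorem mat4_mulVec (g : CH) (v : V4) : mat4 g *ᵥ v = lin g v := LinearMap.toMatrix'_mulVec _ v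

theorem lin_mul (g h : CH) (v : V4) : lin (g * h) v = lin g (lin h v) := by
  obtain ⟨q, hq, rfl⟩ := c4_surj v
  rw [lin_c4 _ hq, lin_c4 _ hq, lin_c4 _ (conj_mem h.2 hq)]
  simp only [Subgroup.coe_mul, mul_inv_rev, mul_assoc]

/-- The matrix as a homomorphism. -/
noncomputable def mat4Hom : CH →* Matrix I4 I4 (ZMod 2) where
  toFun := mat4
  map_one' := Matrix.ext_iff_mulVec.2 fun v => by
    rw [mat4_mulVec, Matrix.one_mulVec]
    obtain ⟨q, hq, rfl⟩ := c4_surj v
    rw [lin_c4 _ hq, OneMemClass.coe_one, OneMemClass.coe_one, one_mul, inv_one, mul_one]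
  map_mul' g h := Matrix.ext_iff_mulVec.2 fun v => by
    rw [← Matrix.mulVec_mulVec, mat4_mulVec, mat4_mulVec, mat4_mulVec, lin_mul]

/-- The quadratic form on the four coordinates. -/
noncomputable abbrev Q4 : QuadraticForm (ZMod 2) V4 := Orth.quadMinus 1 (ZMod 2) 1 1

/-- The orthogonal group. -/
abbrev O4 : Type := Orth.IsoGrp (Orth.quadMinus 1 (ZMod 2) 1 1)

theorem qf_lin (g : CH) (v : V4) :
    quadFormMinus 1 (ZMod 2) 1 1 (mat4 g *ᵥ v) = quadFormMinus 1 (ZMod 2) 1 1 v := by
  obtain ⟨q, hq, rfl⟩ := c4_surj v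
  rw [mat4_mulVec, lin_c4 g hq]
  refine pw_injective ?_
  have hc : ∀ e, ((g : cen) : Co0) * pw e = pw e * ((g : cen) : Co0) :=
    pw_comm (Co1Centralizer.mem_cen.1 (g : cen).2)
  rw [← sq_QS (conj_mem g.2 hq), show ((g : cen) : Co0) * q * ((g : cen) : Co0)⁻¹ *
      (((g : cen) : Co0) * q * ((g : cen) : Co0)⁻¹) =
      ((g : cen) : Co0) * (q * q) * ((g : cen) : Co0)⁻¹ by group, sq_QS hq, hc, mul_inv_cancel_right]

/-- The homomorphism to the orthogonal group. -/
noncomputable def theta : CH →* O4 where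
  toFun g := ⟨mat4Hom.toHomUnits g, fun v _ => qf_lin g v⟩
  map_one' := Subtype.ext (map_one _)
  map_mul' g h := Subtype.ext (map_mul _ g h)

theorem theta_c4 (g : CH) {q : Co0} (hq : q ∈ QS) :
    Orth.ap (theta g) (c4 q) = c4 (((g : cen) : Co0) * q * ((g : cen) : Co0)⁻¹) := by
  rw [← lin_c4 g hq, ← mat4_mulVec]
  rfl

theorem theta_eq_one_of_comm {g : CH}
    (h : ∀ q ∈ QS, ∃ e, ((g : cen) : Co0) * q = pw e * (q * ((g : cen) : Co0))) : theta g = 1 := by
  refine Orth.ext_ap fun v => ?_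
  obtain ⟨q, hq, rfl⟩ := c4_surj v
  obtain ⟨e, he⟩ := h q hq
  rw [Orth.ap_one, theta_c4 g hq, he, mul_assoc, mul_inv_cancel_right]
  have hp : pw e ∈ QS := by
    unfold pw
    split_ifs
    exacts [one_mem _, inv0_mem_QS]
  rw [c4_mul hp hq]
  unfold pw
  split_ifs
  · rw [c4_one, zero_add]
  · rw [c4_inv0, zero_add]

theorem theta_eq_one_of_mem_AZ {g : CH} (h : ((g : cen) : Co0) ∈ AZ) : theta g = 1 :=
  theta_eq_one_of_comm fun q hq => ⟨0, by rw [pw_zero, one_mul, AZ_comm (comm_om_of_mem hq) h]⟩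

theorem theta_eq_one_of_mem_QS {g : CH} (h : ((g : cen) : Co0) ∈ QS) : theta g = 1 :=
  theta_eq_one_of_comm fun _ hq => ⟨_, com_spec h hq⟩

theorem theta_eq_one_of_ker {g : CH} (h : (g : cen) ∈ phi.ker) : theta g = 1 := by
  rcases mem_QS_of_ker g.2 h with h1 | h1
  · exact theta_eq_one_of_mem_QS h1
  · have h2 : theta (⟨negEl, negEl_mem_CH⟩ * g) = 1 := theta_eq_one_of_mem_QS h1
    rwa [map_mul, theta_eq_one_of_mem_AZ (g := ⟨negEl, negEl_mem_CH⟩) negOne_mem_AZ, one_mul] at h2

/-! ### The image -/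

/-- Bit vectors as coordinate vectors. -/
def toV4 (n : ℕ) : V4 := fun k => if n.testBit (idx4 k) then 1 else 0

/-- The image of a bit vector under a generator. -/
def img4 (k : Fin 3) (n : ℕ) : ℕ := combine (mat4Data.getD k.val []) n

theorem img4_check : ∀ (k : Fin 3) (n : Fin 16), img4 k n.val < 16 ∧
    (∑ j, toV4 n.val j • c4d (cIdx k j)) = toV4 (img4 k n.val) := by decide +kernel

/-- A generator in `CH`. -/
noncomputable def genCH (k : Fin 3) : CH := ⟨gen k, gen_mem_CH k⟩

theorem ap_gen4 (k : Fin 3) {n : ℕ} (hn : n < 16) :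
    Orth.ap (theta (genCH k)) (toV4 n) = toV4 (img4 k n) := by
  show mat4 (genCH k) *ᵥ toV4 n = _
  rw [← (img4_check k ⟨n, hn⟩).2, mat4_mulVec]
  conv_lhs => rw [pi_eq_sum_univ' (toV4 n), map_sum]
  refine Finset.sum_congr rfl fun j _ => ?_
  rw [map_smul, ← c4_basis, ← c4_qEl, lin_c4 _ (qEl_mem _)]
  congr 1
  rw [← c4_qEl, ← conj_basis]
  rfl

/-- The product along a word. -/
noncomputable def word4 (w : List ℕ) : CH := (w.map fun g => genCH (Fin.ofNat 3 g)).prod

/-- The image of a bit vector under a word. -/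
def imgW4 : List ℕ → ℕ → ℕ
  | [], n => n
  | g :: w, n => img4 (Fin.ofNat 3 g) (imgW4 w n)

theorem imgW4_lt : ∀ (w : List ℕ) {n : ℕ}, n < 16 → imgW4 w n < 16
  | [], _, h => h
  | g :: w, _, h => (img4_check _ ⟨_, imgW4_lt w h⟩).1

theorem ap_word4 : ∀ (w : List ℕ) {n : ℕ}, n < 16 →
    Orth.ap (theta (word4 w)) (toV4 n) = toV4 (imgW4 w n)
  | [], n, _ => by rw [word4, List.map_nil, List.prod_nil, map_one, Orth.ap_one]; rfl
  | g :: w, n, h => by
    rw [word4, List.map_cons, List.prod_cons, map_mul, Orth.ap_mul, ← word4, ap_word4 w h,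
      ap_gen4 _ (imgW4_lt w h)]
    rfl

theorem toV4_surj : ∀ v : V4, ∃ n : Fin 16, toV4 n.val = v := by decide +kernel

theorem toV4_inj : ∀ a b : Fin 16, toV4 a.val = toV4 b.val → a = b := by decide +kernel

/-- The isometry group of the four coordinates is the symmetric group of degree five. -/
noncomputable def isoSym : O4 ≃* Equiv.Perm (Fin 5) :=
  (S0824.result (F := ZMod 2) (ZMod.card 2)).some

theorem map_omega : (commutator O4).map isoSym.toMonoidHom = alternatingGroup (Fin 5) := by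
  refine le_antisymm ?_ fun g hg => ?_
  · rw [map_commutator_eq, MonoidHom.range_eq_top.2 isoSym.surjective]
    exact alternatingGroup.commutator_perm_le
  · have h := (commutator_alternatingGroup_eq_self (α := Fin 5) (by simp)).ge hg
    rw [map_commutator_eq, MonoidHom.range_eq_top.2 isoSym.surjective]
    exact Subgroup.commutator_mono le_top le_top h

/-- The commutator subgroup is the alternating group of degree five. -/
noncomputable def omegaEquiv :
    ↥(Omega (ZMod 2) (quadFormMinus 1 (ZMod 2) 1 1)) ≃* alternatingGroup (Fin 5) :=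
  ((commutator O4).equivMapOfInjective isoSym.toMonoidHom isoSym.injective).trans
    (MulEquiv.subgroupCongr map_omega)

theorem isSimpleGroup_omega4 : IsSimpleGroup ↥(Omega (ZMod 2) (quadFormMinus 1 (ZMod 2) 1 1)) := by
  haveI := alternatingGroup.isSimpleGroup_five
  exact omegaEquiv.isSimpleGroup

/-! ### The image and the kernel -/

/-- `phi` on `CH`. -/
noncomputable def phiCH : CH →* Co1Centralizer.OGrp := phi.comp CH.subtype

/-- The image of the kernel of `theta`. -/
noncomputable def kerImg : Subgroup phiCH.range := theta.ker.map phiCH.rangeRestrict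

theorem card_mul_card_range : Nat.card kerImg * Nat.card theta.range ≤ 300 := by
  have hle : phiCH.rangeRestrict.ker ≤ theta.ker := fun x hx =>
    MonoidHom.mem_ker.2 (theta_eq_one_of_ker
      (MonoidHom.mem_ker.2 (congrArg Subtype.val (MonoidHom.mem_ker.1 hx))))
  have h1 := Subgroup.card_mul_index kerImg
  rw [kerImg, Subgroup.index_map_eq _ phiCH.rangeRestrict_surjective hle, Subgroup.index_ker] at h1
  rw [kerImg, h1]
  rw [show phiCH.range = CH.map phi by rw [phiCH, MonoidHom.range_comp, Subgroup.range_subtype]]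
  exact natCard_phiCH_le

/-- The image of the element of order five. -/
noncomputable def wEl : phiCH.range := phiCH.rangeRestrict (genCH 0)

theorem om0_mem_AZ : ((gen 0 : cen) : Co0) ∈ AZ := by
  rw [gen_zero_coe]
  exact Subgroup.mem_sup_left (Subgroup.mem_zpowers _)

theorem wEl_mem : wEl ∈ kerImg :=
  ⟨genCH 0, MonoidHom.mem_ker.2 (theta_eq_one_of_mem_AZ om0_mem_AZ), rfl⟩

theorem orderOf_wEl : orderOf wEl = 5 := by
  haveI : Fact (Nat.Prime 5) := ⟨Nat.prime_five⟩
  refine orderOf_eq_prime ?_ fun h => ?_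
  · rw [wEl, ← map_pow, show genCH 0 ^ 5 = 1 from Subtype.ext (Subtype.ext (by
      simp only [SubmonoidClass.coe_pow, OneMemClass.coe_one]
      show ((gen 0 : cen) : Co0) ^ 5 = 1
      rw [gen_zero_coe, om0_pow_five])), map_one]
  · have h5 : Orth.ap (phi (gen 0)) (Co1Centralizer.toV 1) = Co1Centralizer.toV 1 := by
      have h4 := congrArg (fun x : phiCH.range => Orth.ap (x : Co1Centralizer.OGrp) (Co1Centralizer.toV 1)) h
      simp only [OneMemClass.coe_one, Orth.ap_one] at h4
      exact h4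
    rw [ap_gen 0 (by norm_num)] at h5
    exact absurd h5 (by decide +kernel)

theorem five_le_card_kerImg : 5 ≤ Nat.card kerImg := by
  have h := Subgroup.card_le_of_le (Subgroup.zpowers_le.2 wEl_mem)
  rwa [Nat.card_zpowers, orderOf_wEl] at h

theorem words4_check : words4.length = 60 ∧
    (words4.map fun w => [1, 2, 4, 8].map (imgW4 w)).Nodup := by decide +kernel

theorem sixty_le_card_range : 60 ≤ Nat.card theta.range := by
  let f : Fin words4.length → theta.range := fun n => ⟨theta (word4 words4[n]), _, rfl⟩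
  have hf : Function.Injective f := fun a b h => by
    have e : theta (word4 words4[a]) = theta (word4 words4[b]) := congrArg Subtype.val h
    have key : [1, 2, 4, 8].map (imgW4 words4[a]) = [1, 2, 4, 8].map (imgW4 words4[b]) :=
      List.map_congr_left fun m hm => by
        have hm16 : m < 16 := by simp at hm; omega
        have h1 := ap_word4 words4[a] hm16
        rw [e, ap_word4 words4[b] hm16] at h1
        exact congrArg Fin.val (toV4_inj ⟨_, imgW4_lt _ hm16⟩ ⟨_, imgW4_lt _ hm16⟩ h1.symm)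
    have hnd := List.nodup_iff_injective_getElem.1 words4_check.2
    exact Fin.ext (congrArg Fin.val (@hnd ⟨a.1, by simp⟩ ⟨b.1, by simp⟩ (by simpa using key)))
  have h := Nat.card_le_card_of_injective f hf
  rwa [Nat.card_eq_fintype_card, Fintype.card_fin, words4_check.1] at h

theorem natCard_range : Nat.card theta.range = 60 ∧ Nat.card kerImg = 5 := by
  have h1 := card_mul_card_range
  have h2 := five_le_card_kerImg
  have h3 := sixty_le_card_range
  have h4 := Nat.mul_le_mul_right (Nat.card theta.range) h2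
  have h5 := Nat.mul_le_mul_left (Nat.card kerImg) h3
  omega

theorem range_theta : theta.range = Omega (ZMod 2) (quadFormMinus 1 (ZMod 2) 1 1) := by
  have hO : Nat.card O4 = 120 := by
    rw [Nat.card_congr isoSym.toEquiv, Nat.card_perm, Nat.card_fin]
    rfl
  have hi : theta.range.index = 2 := by
    have h := Subgroup.card_mul_index theta.range
    rw [natCard_range.1, hO] at h
    omega
  haveI : theta.range.Normal := Subgroup.normal_of_index_eq_two hi
  have hle : commutator O4 ≤ theta.range := by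
    refine Subgroup.Normal.quotient_commutative_iff_commutator_le.1 ?_
    haveI : Fact (Nat.Prime 2) := ⟨Nat.prime_two⟩
    haveI : IsCyclic (O4 ⧸ theta.range) := isCyclic_of_prime_card (p := 2)
      (by rw [← Subgroup.index_eq_card, hi])
    exact IsMulCommutative.mk ⟨fun a b => (IsCyclic.commGroup).mul_comm a b⟩
  suffices hh : theta.range = commutator O4 from hh
  refine (Subgroup.eq_of_le_of_card_ge hle ?_).symm
  rw [natCard_range.1]
  exact le_of_eq ((Nat.card_congr omegaEquiv.toEquiv).trans (by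
    rw [Nat.card_eq_fintype_card]; decide)).symm

theorem mem_ker_theta {g : CH} (hg : g ∈ theta.ker) : ∃ a ∈ AZ, ∃ q ∈ QS, ((g : cen) : Co0) = a * q := by
  have hKw : Subgroup.zpowers wEl = kerImg := Subgroup.eq_of_le_of_card_ge
    (Subgroup.zpowers_le.2 wEl_mem) (by rw [Nat.card_zpowers, orderOf_wEl, natCard_range.2])
  have hg' : phiCH.rangeRestrict g ∈ Subgroup.zpowers wEl := hKw ▸ Subgroup.mem_map_of_mem _ hg
  obtain ⟨i, hi⟩ := Subgroup.mem_zpowers_iff.1 hg'
  rw [wEl, ← map_zpow] at hi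
  have hk : ((genCH 0 ^ i)⁻¹ * g : CH).1 ∈ phi.ker := by
    have := congrArg Subtype.val hi
    change phiCH (genCH 0 ^ i) = phiCH g at this
    show (phiCH ((genCH 0 ^ i)⁻¹ * g)) = 1
    rw [map_mul, map_inv, this, inv_mul_cancel]
  have hom : (((genCH 0 ^ i : CH) : cen) : Co0) ∈ AZ := by
    simp only [SubgroupClass.coe_zpow]
    exact zpow_mem om0_mem_AZ i
  rcases mem_QS_of_ker ((genCH 0 ^ i)⁻¹ * g).2 hk with h | h
  · exact ⟨_, hom, _, h, by simp⟩
  · refine ⟨_, mul_mem hom negOne_mem_AZ, _, h, ?_⟩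
    have hnn : negOne * negOne = 1 := co0_ext fun v => by
      rw [mul_smul, negOne_smul, negOne_smul, neg_neg, one_smul]
    rw [mul_assoc, ← mul_assoc negOne negOne, hnn, one_mul]
    simp

end Cfsg.Agent.J2Section
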