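/-
The section `S = C(A)/(A × Z)` of Co0 for `A = ⟨om0⟩`, with the centraliser of the involution `zS`.

* `S`, `zS`, `HS`, `psi`, `psi_range`, `natCard_Qz`, `isExtraspecial_Qz`, `genFitting_eq`
* `exists_fused`, `isSimpleGroup_S`, `not_isMulCommutative_S`
-/
import Cfsg.Agent.Lib.J2Section.Four
import Cfsg.Agent.Lib.LargeExtraspecial.Simple
import Cfsg.Agent.Lib.LocalCharP.Basic
import Cfsg.Agent.Lib.Cores.Basic

set_option autoImplicit false
open scoped Pointwise commutatorElement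
open Cfsg
open Cfsg.Agent.Leech
open Cfsg.Agent.Co2Centralizer (inv0 invFun0 kerMono lift bOct)
open Cfsg.Agent.Co1Centralizer (cen phi negEl)

open Cfsg.Agent.SuzSection (okD monoD monoF comp2 vec_monoD monoD_mul_eq_iff vec_inv0 pw pw_zero pw_one pw_add com_of_comm inv0_ne_one)

namespace Cfsg.Agent.J2Section

/-- The subgroup of order five. -/
noncomputable abbrev A : Subgroup Co0 := Subgroup.zpowers om0

/-- Its centraliser. -/
noncomputable abbrev Cc : Subgroup Co0 := Subgroup.centralizer (A : Set Co0)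

theorem om0_ne_one : om0 ≠ 1 := by
  intro h
  have h1 : Orth.ap (phi (gen 0)) (Co1Centralizer.toV 1) = Co1Centralizer.toV 1 := by
    rw [show gen 0 = 1 from Subtype.ext (gen_zero_coe.trans h), map_one, Orth.ap_one]
  rw [ap_gen 0 (by norm_num)] at h1
  exact absurd h1 (by decide +kernel)

theorem natCard_A : Nat.card A = 5 := by
  haveI : Fact (Nat.Prime 5) := ⟨Nat.prime_five⟩
  rw [Nat.card_zpowers]
  exact orderOf_eq_prime om0_pow_five om0_ne_one

theorem mem_Cc {g : Co0} : g ∈ Cc ↔ g * om0 = om0 * g := by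
  rw [Cc, Subgroup.mem_centralizer_iff]
  refine ⟨fun h => (h om0 (Subgroup.mem_zpowers _)).symm, fun h x hx => ?_⟩
  obtain ⟨n, rfl⟩ := Subgroup.mem_zpowers_iff.1 hx
  exact (Commute.zpow_right (h : Commute g om0) n).eq.symm

theorem AZ_eq : AZ = A ⊔ Subgroup.center Co0 := rfl

instance normal_AZ : (AZ.subgroupOf Cc).Normal := ⟨fun a ha g => by
  rw [Subgroup.mem_subgroupOf] at ha ⊢
  have h : ((g * a * g⁻¹ : Cc) : Co0) = a := by
    simp only [Subgroup.coe_mul, InvMemClass.coe_inv]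
    rw [AZ_comm (mem_Cc.1 g.2) ha, mul_inv_cancel_right]
  rwa [h]⟩

/-- The section. -/
abbrev S : Type := ↥Cc ⧸ AZ.subgroupOf Cc

/-- The projection. -/
noncomputable def toS : Cc →* S := QuotientGroup.mk' _

theorem toS_surjective : Function.Surjective toS := QuotientGroup.mk_surjective

theorem toS_eq_iff {a b : Cc} : toS a = toS b ↔ (a : Co0)⁻¹ * b ∈ AZ := by
  rw [toS, QuotientGroup.mk'_apply, QuotientGroup.mk'_apply, QuotientGroup.eq, Subgroup.mem_subgroupOf]
  rfl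

theorem toS_eq_one_iff {a : Cc} : toS a = 1 ↔ (a : Co0) ∈ AZ := by
  rw [toS, QuotientGroup.mk'_apply, QuotientGroup.eq_one_iff, Subgroup.mem_subgroupOf]

theorem negOne_mul_self : negOne * negOne = 1 := co0_ext fun v => by
  rw [mul_smul, negOne_smul, negOne_smul, neg_neg, one_smul]

theorem AZ_decomp {a : Co0} (ha : a ∈ AZ) : ∃ y ∈ A, a = y ∨ a = negOne * y := by
  obtain ⟨y, hy, z, hz, rfl⟩ := Subgroup.mem_sup_of_normal_right.1 ha
  refine ⟨y, hy, ?_⟩
  rcases center_eq hz with rfl | rfl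
  · exact Or.inl (mul_one _)
  · exact Or.inr (Subgroup.mem_center_iff.1 negOne_mem_center y)

theorem pow_five_A {y : Co0} (hy : y ∈ A) : y ^ 5 = 1 := by
  obtain ⟨n, rfl⟩ := Subgroup.mem_zpowers_iff.1 hy
  rw [← zpow_natCast, ← zpow_mul, mul_comm, zpow_mul, zpow_natCast, om0_pow_five, one_zpow]

theorem AZ_sq {a : Co0} (ha : a ∈ AZ) (h : a * a = 1) : a = 1 ∨ a = negOne := by
  obtain ⟨y, hy, e⟩ := AZ_decomp ha
  have hyy : y * y = 1 := by
    rcases e with rfl | rfl
    · exact h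
    · have hc := Subgroup.mem_center_iff.1 negOne_mem_center y
      rwa [mul_assoc, ← mul_assoc y, hc, ← mul_assoc, ← mul_assoc, negOne_mul_self, one_mul] at h
  have hy1 : y = 1 := by
    have h5 := pow_five_A hy
    rwa [pow_succ, show 4 = 2 * 2 from rfl, pow_mul, sq, sq, hyy, one_mul, one_mul] at h5
  subst hy1
  rwa [mul_one] at e

theorem negOne_notMem_QS : negOne ∉ QS := by
  intro h
  have h0 : c4 negOne = 0 :=
    funext fun k => com_of_comm (Subgroup.mem_center_iff.1 negOne_mem_center _).symm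
  rcases c4_eq_zero h h0 with h1 | h1
  · have h2 := congrArg (fun g : Co0 => ((g • eightVec none : leechLattice) : GolayPt → ℤ) none) h1
    simp only [negOne_smul, one_smul] at h2
    rw [show ((-eightVec none : leechLattice) : GolayPt → ℤ) none =
      -((eightVec none : GolayPt → ℤ) none) from rfl, coe_eightVec, Pi.single_eq_same] at h2
    norm_num at h2
  · have h2 := congrArg (fun g : Co0 => ((g • eightVec none : leechLattice) : GolayPt → ℤ) none) h1
    simp only [negOne_smul, vec_inv0] at h2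
    rw [show ((-eightVec none : leechLattice) : GolayPt → ℤ) none =
      -((eightVec none : GolayPt → ℤ) none) from rfl, coe_eightVec] at h2
    simp [invFun0, Co2Centralizer.none_mem_oct] at h2

theorem eq_one_of_mem_QS_AZ {q : Co0} (hq : q ∈ QS) (ha : q ∈ AZ) : q = 1 := by
  have h4 : q * q * (q * q) = 1 := by
    rw [sq_QS hq, ← pw_add, CharTwo.add_self_eq_zero, pw_zero]
  rcases AZ_sq (mul_mem ha ha) h4 with h | h
  · exact (AZ_sq ha h).resolve_right fun e => negOne_notMem_QS (e ▸ hq)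
  · exact absurd (h ▸ mul_mem hq hq) negOne_notMem_QS

/-! ### The involution and its centraliser -/

theorem inv0_mem_Cc : inv0 ∈ Cc := mem_Cc.2 om0_inv0.symm

/-- The involution. -/
noncomputable def zS : S := toS ⟨inv0, inv0_mem_Cc⟩

theorem zS_mul_self : zS * zS = 1 := by
  rw [zS, ← map_mul, toS_eq_one_iff]
  show inv0 * inv0 ∈ AZ
  rw [Co1Centralizer.inv0_mul_self]
  exact one_mem _

theorem orderOf_zS : orderOf zS = 2 := by
  haveI : Fact (Nat.Prime 2) := ⟨Nat.prime_two⟩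
  refine orderOf_eq_prime (by rw [sq, zS_mul_self]) fun h => inv0_ne_one ?_
  exact eq_one_of_mem_QS_AZ inv0_mem_QS (toS_eq_one_iff.1 h)

/-- Its centraliser. -/
noncomputable abbrev HS : Subgroup S := Subgroup.centralizer {zS}

theorem toS_mem_HS {g : Cc} : toS g ∈ HS ↔ (g : Co0) ∈ cen := by
  rw [Subgroup.mem_centralizer_singleton_iff, zS, ← map_mul, ← map_mul]
  refine ⟨fun h => ?_, fun h => congrArg toS (Subtype.ext (Co1Centralizer.mem_cen.1 h))⟩
  obtain ⟨g, hg⟩ := g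
  have ha : (g * inv0)⁻¹ * (inv0 * g) ∈ AZ := toS_eq_iff.1 h
  set a := (g * inv0)⁻¹ * (inv0 * g) with ha'
  have e : inv0 * g = g * inv0 * a := by rw [ha', mul_inv_cancel_left]
  have hsq : a * a = 1 := by
    have c1 := AZ_comm (g := inv0) om0_inv0.symm ha
    refine mul_eq_left.1 (?_ : g * (a * a) = g)
    calc g * (a * a) = g * (inv0 * inv0) * (a * a) := by rw [Co1Centralizer.inv0_mul_self, mul_one]
      _ = g * inv0 * (inv0 * a) * a := by simp only [mul_assoc]
      _ = g * inv0 * a * inv0 * a := by rw [c1, ← mul_assoc (g * inv0)]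
      _ = inv0 * g * inv0 * a := by rw [← e]
      _ = inv0 * (g * inv0 * a) := by simp only [mul_assoc]
      _ = g := by rw [← e, ← mul_assoc, Co1Centralizer.inv0_mul_self, one_mul]
  rcases AZ_sq ha hsq with h1 | h1
  · exact Co1Centralizer.mem_cen.2 (by rw [e, h1, mul_one])
  · refine absurd ?_ (Co1Centralizer.not_anticommute g)
    rw [e, h1, Subgroup.mem_center_iff.1 negOne_mem_center, ← mul_assoc, negOne_mul_self, one_mul]

theorem coe_mem_Cc (g : CH) : ((g : cen) : Co0) ∈ Cc := mem_Cc.2 (mem_CH.1 g.2)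

/-- The map from `CH` to the centraliser of the involution. -/
noncomputable def proj : CH →* HS :=
  (toS.comp ((cen.subtype.comp CH.subtype).codRestrict Cc coe_mem_Cc)).codRestrict _ fun g =>
    toS_mem_HS.2 (g : cen).2

theorem proj_coe (g : CH) : ((proj g : HS) : S) = toS ⟨(g : cen), coe_mem_Cc g⟩ := rfl

theorem proj_surjective : Function.Surjective proj := by
  rintro ⟨x, hx⟩
  obtain ⟨⟨g, hg⟩, rfl⟩ := toS_surjective x
  exact ⟨⟨⟨g, toS_mem_HS.1 hx⟩, mem_CH.2 (mem_Cc.1 hg)⟩, rfl⟩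

theorem ker_proj_le : proj.ker ≤ theta.ker := fun g hg =>
  MonoidHom.mem_ker.2 (theta_eq_one_of_mem_AZ
    (toS_eq_one_iff.1 (congrArg Subtype.val (MonoidHom.mem_ker.1 hg))))

/-- The action of the centraliser. -/
noncomputable def psi : HS →* O4 := proj.liftOfSurjective proj_surjective ⟨theta, ker_proj_le⟩

theorem psi_proj (g : CH) : psi (proj g) = theta g :=
  MonoidHom.liftOfRightInverse_comp_apply _ _ _ ⟨theta, ker_proj_le⟩ g

theorem psi_range : psi.range = Omega (ZMod 2) (quadFormMinus 1 (ZMod 2) 1 1) := by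
  rw [← range_theta]
  ext x
  constructor
  · rintro ⟨c, rfl⟩
    obtain ⟨g, rfl⟩ := proj_surjective c
    exact ⟨g, (psi_proj g).symm⟩
  · rintro ⟨g, rfl⟩
    exact ⟨proj g, psi_proj g⟩

/-- An element of `QS` in `CH`. -/
noncomputable def qCH : QS →* CH where
  toFun q := ⟨⟨q, QS_le q.2⟩, mem_CH.2 (comm_om_of_mem q.2)⟩
  map_one' := rfl
  map_mul' _ _ := rfl

theorem qCH_coe (q : QS) : (((qCH q : CH) : cen) : Co0) = q := rfl

/-- `QS` in the section. -/
noncomputable def qHS : QS →* HS := proj.comp qCH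

theorem qHS_injective : Function.Injective qHS := by
  rw [injective_iff_map_eq_one]
  intro q hq
  exact Subtype.ext (eq_one_of_mem_QS_AZ q.2 (toS_eq_one_iff.1 (congrArg Subtype.val hq)))

theorem range_qHS : qHS.range = psi.ker := by
  refine le_antisymm ?_ fun x hx => ?_
  · rintro _ ⟨q, rfl⟩
    rw [MonoidHom.mem_ker, qHS, MonoidHom.comp_apply, psi_proj]
    exact theta_eq_one_of_mem_QS q.2
  · obtain ⟨g, rfl⟩ := proj_surjective x
    rw [MonoidHom.mem_ker, psi_proj] at hx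
    obtain ⟨a, ha, q, hq, e⟩ := mem_ker_theta (MonoidHom.mem_ker.2 hx)
    refine ⟨⟨q, hq⟩, Subtype.ext (toS_eq_iff.2 ?_)⟩
    show q⁻¹ * ((g : cen) : Co0) ∈ AZ
    rw [e, ← mul_assoc, AZ_comm (inv_mem (mem_Cc.2 (comm_om_of_mem hq)) |> mem_Cc.1) ha, inv_mul_cancel_right]
    exact ha

/-- `QS` is the kernel. -/
noncomputable def kerEquiv : QS ≃* psi.ker :=
  (MonoidHom.ofInjective qHS_injective).trans (MulEquiv.subgroupCongr range_qHS)

theorem natCard_Qz : Nat.card psi.ker = 2 ^ 5 :=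
  (Nat.card_congr kerEquiv.toEquiv).symm.trans natCard_QS

theorem isExtraspecial_Qz : Cfsg.IsExtraspecial 2 ↥psi.ker :=
  LargeExtraspecial.isExtraspecial_congr kerEquiv isExtraspecial_QS

theorem centralizer_Qz_le : Subgroup.centralizer (psi.ker : Set HS) ≤ psi.ker := by
  intro c hc
  obtain ⟨g, rfl⟩ := proj_surjective c
  rw [MonoidHom.mem_ker, psi_proj]
  refine theta_eq_one_of_comm fun q hq => ⟨0, ?_⟩
  rw [pw_zero, one_mul]
  have h1 := Subgroup.mem_centralizer_iff.1 hc (qHS ⟨q, hq⟩) (range_qHS ▸ ⟨⟨q, hq⟩, rfl⟩)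
  have h2 : qHS ⟨_, conj_mem g.2 hq⟩ = qHS ⟨q, hq⟩ := by
    have e : qCH ⟨_, conj_mem g.2 hq⟩ = g * qCH ⟨q, hq⟩ * g⁻¹ := Subtype.ext (Subtype.ext rfl)
    show proj (qCH ⟨_, conj_mem g.2 hq⟩) = qHS ⟨q, hq⟩
    rw [e, map_mul, map_mul, map_inv, mul_inv_eq_iff_eq_mul]
    exact h1.symm
  exact mul_inv_eq_iff_eq_mul.1 (congrArg Subtype.val (qHS_injective h2))

/-- `psi` onto the commutator subgroup. -/
noncomputable def psiOmega : HS →* ↥(Omega (ZMod 2) (quadFormMinus 1 (ZMod 2) 1 1)) :=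
  psi.codRestrict _ fun c => psi_range ▸ ⟨c, rfl⟩

theorem psiOmega_surjective : Function.Surjective psiOmega := by
  rintro ⟨x, hx⟩
  obtain ⟨c, hc⟩ := psi_range ▸ hx
  exact ⟨c, Subtype.ext hc⟩

theorem ker_psiOmega : psiOmega.ker = psi.ker := MonoidHom.ker_codRestrict psi _ _

theorem pCore_eq_Qz : pCore 2 ↥HS = psi.ker := by
  haveI : Fact (Nat.Prime 2) := ⟨Nat.prime_two⟩
  haveI := isSimpleGroup_omega4
  refine le_antisymm ?_ (Cores.le_pCore inferInstance (IsPGroup.of_card natCard_Qz))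
  rcases ((Cores.pCore_normal 2 ↥HS).map psiOmega psiOmega_surjective).eq_bot_or_eq_top with h | h
  · rwa [Subgroup.map_eq_bot_iff, ker_psiOmega] at h
  exfalso
  have hp := (Cores.isPGroup_pCore 2 ↥HS).map psiOmega
  rw [h] at hp
  have hp' : IsPGroup 2 ↥(Omega (ZMod 2) (quadFormMinus 1 (ZMod 2) 1 1)) := hp.of_equiv Subgroup.topEquiv
  haveI := hp'.center_nontrivial
  rcases (inferInstance : (Subgroup.center ↥(Omega (ZMod 2) (quadFormMinus 1 (ZMod 2) 1 1))).Normal).eq_bot_or_eq_top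
    with hb | ht
  · exact (Subgroup.nontrivial_iff_ne_bot _).1
      (inferInstance : Nontrivial ↥(Subgroup.center ↥(Omega (ZMod 2) (quadFormMinus 1 (ZMod 2) 1 1)))) hb
  · obtain ⟨a, b, hab⟩ : ∃ a b : alternatingGroup (Fin 5), a * b ≠ b * a := by decide +kernel
    have hc : omegaEquiv.symm a ∈ Subgroup.center _ := ht ▸ Subgroup.mem_top _
    refine hab ?_
    have := congrArg omegaEquiv (Subgroup.mem_center_iff.1 hc (omegaEquiv.symm b))
    rw [map_mul, map_mul, MulEquiv.apply_symm_apply, MulEquiv.apply_symm_apply] at this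
    exact this.symm

theorem genFitting_eq : generalizedFittingSubgroup ↥HS = psi.ker := by
  haveI : Fact (Nat.Prime 2) := ⟨Nat.prime_two⟩
  rw [LocalCharP.generalizedFittingSubgroup_eq_pCore (p := 2)
    (by rw [pCore_eq_Qz]; exact centralizer_Qz_le), pCore_eq_Qz]

/-! ### The fused conjugates -/

/-- The positions of the sign changes on the two image octads. -/
def oIdx (k : Fin 2) : Fin 32 := Fin.ofNat 32 (oPos.getD k.val 0)

theorem fused_check : ∀ (k : Fin 2) (j i : GolayPt),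
    monoF (md (4 + k.val)) (invFun0 (Pi.single j 8)) i =
      -monoF (qd (oIdx k)) (monoF (md (4 + k.val)) (Pi.single j 8)) i := by decide +kernel

theorem fused_inv0 (k : Fin 2) : fused k * inv0 = negOne * (qEl (oIdx k) * fused k) :=
  ext_frame fun j => Subtype.ext (funext fun i => by
    rw [mul_smul, mul_smul, negOne_smul, mul_smul]
    show _ = -((qEl (oIdx k) • fused k • eightVec j : leechLattice) : GolayPt → ℤ) i
    rw [vec_fused, vec_inv0, qEl, vec_monoD (qd_ok _), vec_fused, coe_eightVec]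
    exact fused_check k j i)

/-- A moving element in the section. -/
noncomputable def fS (k : Fin 2) : S := toS ⟨fused k, mem_Cc.2 (fused_comm k)⟩

/-- An element of `QS` in the section. -/
noncomputable def qS : QS →* S := HS.subtype.comp qHS

theorem qS_injective : Function.Injective qS := Subtype.val_injective.comp qHS_injective

theorem qS_eq (q : QS) : qS q = toS ⟨q, mem_Cc.2 (comm_om_of_mem q.2)⟩ := rfl

theorem qS_inv0 : qS ⟨inv0, inv0_mem_QS⟩ = zS := rfl

theorem conj_fS (k : Fin 2) : fS k * zS * (fS k)⁻¹ = qS ⟨qEl (oIdx k), qEl_mem _⟩ := by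
  rw [mul_inv_eq_iff_eq_mul, fS, zS, qS_eq, ← map_mul, ← map_mul, eq_comm, toS_eq_iff]
  show (qEl (oIdx k) * fused k)⁻¹ * (fused k * inv0) ∈ AZ
  rw [fused_inv0, ← Subgroup.mem_center_iff.1 negOne_mem_center, inv_mul_cancel_left]
  exact negOne_mem_AZ

theorem oIdx_ne : ∀ k, c4d (oIdx k) ≠ 0 := by decide +kernel

theorem conj_fS_ne (k : Fin 2) : fS k * zS * (fS k)⁻¹ ≠ zS := by
  rw [conj_fS, ← qS_inv0]
  intro h
  have h1 : qEl (oIdx k) = inv0 := congrArg Subtype.val (qS_injective h)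
  exact oIdx_ne k (by rw [← c4_qEl, h1, c4_inv0])

theorem exists_fused : ∃ g : S, (∃ hq : g * zS * g⁻¹ ∈ HS, (⟨g * zS * g⁻¹, hq⟩ : HS) ∈ psi.ker) ∧
    g * zS * g⁻¹ ≠ zS := by
  refine ⟨fS 0, ⟨(conj_fS 0).symm ▸ (qHS ⟨qEl (oIdx 0), qEl_mem _⟩).2, ?_⟩, conj_fS_ne 0⟩
  have h : qHS ⟨qEl (oIdx 0), qEl_mem _⟩ ∈ psi.ker := range_qHS ▸ ⟨_, rfl⟩
  rwa [show (⟨_, (conj_fS 0).symm ▸ (qHS ⟨qEl (oIdx 0), qEl_mem _⟩).2⟩ : HS) =
    qHS ⟨qEl (oIdx 0), qEl_mem _⟩ from Subtype.ext (conj_fS 0)]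

theorem not_isMulCommutative_S : ¬ IsMulCommutative S := fun h =>
  conj_fS_ne 0 (by rw [h.1.comm (fS 0) zS, mul_inv_cancel_right])

/-! ### Simplicity -/

theorem oIdx_prod : qEl ⟨qInv, by decide⟩ * qEl (oIdx 0) = qEl (oIdx 1) * qEl ⟨qOne, by decide⟩ :=
  (monoD_mul_eq_iff (qd_ok _) (qd_ok _) (qd_ok _) (qd_ok _)).2 (by decide +kernel)

theorem qS_mul_eq {a b c : Co0} (ha : a ∈ QS) (hb : b ∈ QS) (hc : c ∈ QS) (h : c = a * b) :
    qS ⟨c, hc⟩ = qS ⟨a, ha⟩ * qS ⟨b, hb⟩ := by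
  subst h
  exact map_mul qS ⟨a, ha⟩ ⟨b, hb⟩

theorem qS_comm_zS {a : Co0} (ha : a ∈ QS) : qS ⟨a, ha⟩ * zS = zS * qS ⟨a, ha⟩ :=
  (qS_mul_eq ha inv0_mem_QS (mul_mem ha inv0_mem_QS) rfl).symm.trans
    (qS_mul_eq inv0_mem_QS ha (mul_mem ha inv0_mem_QS) (comm_inv_of_mem ha))

theorem invert_of_inter {N : Subgroup S} (hN : N.Normal) (h : ∀ x ∈ N, x ∈ HS → x = 1) {n : S} (hn : n ∈ N) :
    zS * n * zS = n⁻¹ := by
  have hz : zS⁻¹ = zS := inv_eq_of_mul_eq_one_left zS_mul_self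
  have hconj : ∀ m ∈ N, zS * m * zS ∈ N := fun m hm => by
    have := hN.conj_mem m hm zS
    rwa [hz] at this
  let F : N → N := fun m => ⟨(m : S)⁻¹ * (zS * m * zS), mul_mem (inv_mem m.2) (hconj m m.2)⟩
  have hF : Function.Injective F := fun m l e => by
    have e1 : (m : S)⁻¹ * (zS * m * zS) = (l : S)⁻¹ * (zS * l * zS) := congrArg Subtype.val e
    have e2 : (l : S) * (m : S)⁻¹ ∈ HS := Subgroup.mem_centralizer_singleton_iff.2 (by
      calc (l : S) * (m : S)⁻¹ * zS =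
          (l : S) * ((m : S)⁻¹ * (zS * m * zS)) * (zS⁻¹ * (m : S)⁻¹) := by
            simp only [mul_assoc, mul_inv_cancel_left, mul_inv_cancel, mul_one]
        _ = zS * ((l : S) * (m : S)⁻¹) := by
            rw [e1]
            simp only [mul_assoc, mul_inv_cancel_left])
    exact (Subtype.ext (mul_inv_eq_one.1 (h _ (mul_mem l.2 (inv_mem m.2)) e2))).symm
  obtain ⟨m, hm⟩ := Finite.surjective_of_injective hF ⟨n, hn⟩
  have hm' : (m : S)⁻¹ * (zS * m * zS) = n := congrArg Subtype.val hm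
  rw [← hm']
  simp only [mul_inv_rev, inv_inv, hz, mul_assoc]
  rw [zS_mul_self, mul_one]

theorem invert_conj {N : Subgroup S} (hN : N.Normal) (h : ∀ x ∈ N, x ∈ HS → x = 1) (k : Fin 2) {n : S}
    (hn : n ∈ N) : (fS k * zS * (fS k)⁻¹) * n * (fS k * zS * (fS k)⁻¹) = n⁻¹ := by
  have h1 := invert_of_inter hN h (hN.conj_mem n hn (fS k)⁻¹)
  rw [inv_inv] at h1
  calc fS k * zS * (fS k)⁻¹ * n * (fS k * zS * (fS k)⁻¹)
      = fS k * (zS * ((fS k)⁻¹ * n * fS k) * zS) * (fS k)⁻¹ := by group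
    _ = n⁻¹ := by rw [h1]; group

theorem inter_ne_bot {N : Subgroup S} (hN : N.Normal) (hN' : N ≠ ⊥) : ∃ x ∈ N, x ∈ HS ∧ x ≠ 1 := by
  by_contra hno
  have h : ∀ x ∈ N, x ∈ HS → x = 1 := fun x hx hx' => by_contra fun h1 => hno ⟨x, hx, hx', h1⟩
  refine hN' ((Subgroup.eq_bot_iff_forall _).2 fun n hn => h n hn ?_)
  have hz : zS⁻¹ = zS := inv_eq_of_mul_eq_one_left zS_mul_self
  have hp : qS ⟨qEl (oIdx 1), qEl_mem _⟩ = zS * qS ⟨qEl (oIdx 0), qEl_mem _⟩ := by
    have hh : qEl (oIdx 1) = inv0 * qEl (oIdx 0) := by rw [← qEl_inv, oIdx_prod, qEl_one, mul_one]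
    exact qS_mul_eq inv0_mem_QS (qEl_mem _) (qEl_mem _) hh
  have hc : qS ⟨qEl (oIdx 0), qEl_mem _⟩ * zS = zS * qS ⟨qEl (oIdx 0), qEl_mem _⟩ := by
    exact qS_comm_zS (qEl_mem _)
  have e0 := invert_conj hN h 0 hn
  have e1 := invert_conj hN h 1 hn
  have ez := invert_of_inter hN h (inv_mem hn)
  rw [conj_fS] at e0 e1
  rw [hp] at e1
  have e2 : n⁻¹ = n := by
    calc n⁻¹ = zS * qS ⟨qEl (oIdx 0), qEl_mem _⟩ * n * (zS * qS ⟨qEl (oIdx 0), qEl_mem _⟩) := e1.symm
      _ = zS * (qS ⟨qEl (oIdx 0), qEl_mem _⟩ * n * qS ⟨qEl (oIdx 0), qEl_mem _⟩) * zS := by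
        conv_lhs => arg 2; rw [← hc]
        simp only [mul_assoc]
      _ = n := by rw [e0, ez, inv_inv]
  have e3 := invert_of_inter hN h hn
  rw [e2] at e3
  refine Subgroup.mem_centralizer_singleton_iff.2 ?_
  calc n * zS = zS * zS * n * zS := by rw [zS_mul_self, one_mul]
    _ = zS * (zS * n * zS) := by simp only [mul_assoc]
    _ = zS * n := by rw [e3]

/-- The check of certificates against a list of words. -/
def certCheck (words : List (List ℕ)) : List (ℕ × ℕ × ℕ) → List ℕ → Bool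
  | [], _ => true
  | (q, p, k) :: L, seen =>
    seen.contains p && decide (p < 16) && (imgW4 (words.getD k []) p == q) &&
      certCheck words L (q :: seen)

theorem certCheck_sound (words : List (List ℕ)) (P : ℕ → Prop)
    (hP : ∀ (p k : ℕ), p < 16 → P p → P (imgW4 (words.getD k []) p)) :
    ∀ L seen, certCheck words L seen = true → (∀ n ∈ seen, P n) →
      ∀ n, (n ∈ seen ∨ n ∈ L.map Prod.fst) → P n
  | [], seen, _, h, n, hn => h n (by simpa using hn)
  | (q, p, k) :: L, seen, hc, h, n, hn => by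
    simp only [certCheck, Bool.and_eq_true, List.contains_iff_mem, decide_eq_true_eq, beq_iff_eq] at hc
    obtain ⟨⟨⟨h1, h2⟩, h3⟩, h5⟩ := hc
    refine certCheck_sound words P hP L (q :: seen) h5 (fun m hm => ?_) n ?_
    · rcases List.mem_cons.1 hm with rfl | hm
      · exact h3 ▸ hP p k h2 (h p h1)
      · exact h m hm
    · rcases hn with hn | hn
      · exact Or.inl (List.mem_cons_of_mem _ hn)
      · rw [List.map_cons, List.mem_cons] at hn
        rcases hn with rfl | hn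
        · exact Or.inl List.mem_cons_self
        · exact Or.inr hn

/-- Single generators as words. -/
def singles : List (List ℕ) := [[0], [1], [2]]

/-- The subset sums of the certified classes. -/
def spanVecs : List ℕ := fused4 :: spanData.map Prod.fst

theorem span_cover : ∀ j : I4, ∃ l ∈ spanVecs.sublists, (l.map toV4).sum = Pi.single j 1 := by decide +kernel

theorem span_cert : certCheck singles spanData [fused4] = true := by decide +kernel

theorem fused4_check : c4d (oIdx 1) = toV4 fused4 := by decide +kernel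

/-- The monomial datum of the witness. -/
def witD : ℕ × ℕ × ℕ := witness.2

/-- The position of its preimage. -/
def witIdx : Fin 32 := Fin.ofNat 32 witness.1

theorem wit_check : okD witD = true ∧ commTest witD = true ∧
    comp2 (md 4) (qd witIdx) = comp2 witD (md 4) ∧
    (∀ j i : GolayPt, monoF witD (invFun0 (Pi.single j 8)) i = invFun0 (monoF witD (Pi.single j 8)) i) ∧
    ∃ j : I4, comp2 witD (qd (bIdx j)) ≠ comp2 (qd (bIdx j)) witD ∧
      ∃ p i : GolayPt, monoF witD (monoF (qd (bIdx j)) (Pi.single p 8)) i ≠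
        monoF (qd (bIdx j)) (monoF witD (invFun0 (Pi.single p 8))) i := by decide +kernel

theorem wit_comm : monoD witD * om0 = om0 * monoD witD := (comm_om_iff wit_check.1).2 wit_check.2.1

theorem wit_mem : monoD witD ∈ cen :=
  Co1Centralizer.mem_cen.2 (ext_frame fun j => Subtype.ext (funext fun i => by
    simp only [mul_smul, vec_inv0, vec_monoD wit_check.1, coe_eightVec]
    exact wit_check.2.2.2.1 j i))

/-- The witness. -/
noncomputable def wit : CH := ⟨⟨monoD witD, wit_mem⟩, mem_CH.2 wit_comm⟩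

theorem theta_wit : theta wit ≠ 1 := by
  intro h
  obtain ⟨j, hne, p, i, hne'⟩ := wit_check.2.2.2.2
  have hq := qEl_mem (bIdx j)
  have hc := theta_c4 wit hq
  rw [h, Orth.ap_one] at hc
  have hm := conj_mem wit.2 hq
  set y : Co0 := monoD witD with hy
  change y * qEl (bIdx j) * y⁻¹ ∈ QS at hm
  change c4 (qEl (bIdx j)) = c4 (y * qEl (bIdx j) * y⁻¹) at hc
  have h0 : c4 ((qEl (bIdx j))⁻¹ * (y * qEl (bIdx j) * y⁻¹)) = 0 := by
    rw [c4_mul (inv_mem hq) hm, c4_inv hq, ← hc]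
    exact funext fun _ => CharTwo.add_self_eq_zero _
  rcases c4_eq_zero (mul_mem (inv_mem hq) hm) h0 with h1 | h1
  · rw [inv_mul_eq_one, eq_comm, mul_inv_eq_iff_eq_mul] at h1
    exact hne ((monoD_mul_eq_iff wit_check.1 (qd_ok _) (qd_ok _) wit_check.1).1 h1)
  · rw [inv_mul_eq_iff_eq_mul, mul_inv_eq_iff_eq_mul, mul_assoc _ inv0,
      ← Co1Centralizer.mem_cen.1 wit_mem] at h1
    refine hne' ?_
    have e := congrArg (fun g : Co0 => ((g • eightVec p : leechLattice) : GolayPt → ℤ) i) h1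
    simp only [mul_smul, hy, qEl, vec_monoD wit_check.1, vec_monoD (qd_ok _), vec_inv0, coe_eightVec] at e
    exact e

theorem mem_of_qS {N : Subgroup S} (hN : N.Normal) (hN' : N ≠ ⊥) : ∀ q : QS, qS q ∈ N := by
  let U : Subgroup Co0 := (N.comap qS).map QS.subtype
  have hU : ∀ {q : Co0}, q ∈ U ↔ ∃ h : q ∈ QS, qS ⟨q, h⟩ ∈ N := fun {q} =>
    ⟨fun ⟨x, hx, e⟩ => e ▸ ⟨x.2, hx⟩, fun ⟨h, hx⟩ => ⟨⟨q, h⟩, hx, rfl⟩⟩
  -- a nontrivial element of `U`
  obtain ⟨x, hxN, hxH, hx1⟩ := inter_ne_bot hN hN'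
  haveI := hN
  obtain ⟨w, hw, hwN, hw1⟩ : ∃ w, w ∈ psi.ker ∧ ((w : HS) : S) ∈ N ∧ w ≠ 1 := by
    by_cases hc : (⟨x, hxH⟩ : HS) ∈ Subgroup.centralizer (psi.ker : Set HS)
    · exact ⟨_, centralizer_Qz_le hc, hxN, fun e => hx1 (congrArg Subtype.val e)⟩
    · rw [Subgroup.mem_centralizer_iff] at hc
      push_neg at hc
      obtain ⟨r, hr, hne⟩ := hc
      refine ⟨r * ⟨x, hxH⟩ * r⁻¹ * (⟨x, hxH⟩ : HS)⁻¹, ?_, ?_, ?_⟩
      · rw [mul_assoc r, mul_assoc r]
        exact mul_mem hr ((inferInstance : psi.ker.Normal).conj_mem _ (inv_mem hr) _)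
      · exact mul_mem (hN.conj_mem x hxN r) (inv_mem hxN)
      · rw [ne_eq, mul_inv_eq_one, mul_inv_eq_iff_eq_mul]
        exact hne
  obtain ⟨q0, rfl⟩ : w ∈ qHS.range := range_qHS ▸ hw
  have hq0 : (q0 : Co0) ∈ U := hU.2 ⟨q0.2, hwN⟩
  have hconj : ∀ g : CH, ∀ {q : Co0}, q ∈ U → ((g : cen) : Co0) * q * ((g : cen) : Co0)⁻¹ ∈ U := by
    intro g q hq
    obtain ⟨h, hx⟩ := hU.1 hq
    refine hU.2 ⟨conj_mem g.2 h, ?_⟩
    rw [show qS ⟨_, conj_mem g.2 h⟩ = ((proj g : HS) : S) * qS ⟨q, h⟩ * ((proj g : HS) : S)⁻¹ from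
      congrArg Subtype.val (show proj (qCH ⟨_, conj_mem g.2 h⟩) = proj g * proj (qCH ⟨q, h⟩) * (proj g)⁻¹ by
        rw [← map_mul, ← map_inv, ← map_mul]; exact congrArg proj (Subtype.ext (Subtype.ext rfl)))]
    exact hN.conj_mem _ hx _
  have hinv : inv0 ∈ U := by
    by_cases h0 : c4 (q0 : Co0) = 0
    · rcases c4_eq_zero q0.2 h0 with h | h
      · exact absurd (by rw [show q0 = 1 from Subtype.ext h, map_one]) hw1
      · exact h ▸ hq0
    · obtain ⟨j, hj⟩ := Function.ne_iff.1 h0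
      set b := qEl (bIdx (dual4 j)) with hb
      have hcb : (q0 : Co0) * b ≠ b * q0 := fun e => hj (com_of_comm e)
      have e : (q0 : Co0) * b = inv0 * (b * q0) := (mul_cases q0.2 (qEl_mem _)).resolve_left hcb
      have h1 := mul_mem hq0 (inv_mem (hconj (qCH ⟨b, qEl_mem _⟩) hq0))
      rw [qCH_coe] at h1
      simp only at h1
      rw [show (q0 : Co0) * (b * q0 * b⁻¹)⁻¹ = (q0 * b) * (b * q0)⁻¹ by group, e, mul_inv_cancel_right] at h1
      exact h1
  have hz : zS ∈ N := qS_inv0 ▸ (hU.1 hinv).2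
  have hv0 : ∃ q ∈ U, c4 q = toV4 fused4 := by
    refine ⟨qEl (oIdx 1), hU.2 ⟨qEl_mem _, ?_⟩, by rw [c4_qEl, fused4_check]⟩
    rw [← conj_fS 1]
    exact hN.conj_mem _ hz _
  have hspan : ∀ n ∈ spanVecs, ∃ q ∈ U, c4 q = toV4 n := by
    intro n hn
    rw [spanVecs, List.mem_cons] at hn
    refine certCheck_sound singles (fun n => ∃ q ∈ U, c4 q = toV4 n) ?_ _ _ span_cert ?_ n
      (hn.imp List.mem_singleton.2 id)
    · rintro p k hp ⟨q, hq, e⟩
      refine ⟨_, hconj (word4 (singles.getD k [])) hq, ?_⟩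
      rw [← theta_c4 _ (hU.1 hq).1, e, ap_word4 _ hp]
    · intro m hm
      rw [List.mem_singleton] at hm
      exact hm ▸ hv0
  have hsum : ∀ v : V4, ∃ q ∈ U, c4 q = v := by
    have hlist : ∀ l : List ℕ, (∀ n ∈ l, n ∈ spanVecs) → ∃ q ∈ U, c4 q = (l.map toV4).sum := by
      intro l
      induction l with
      | nil => exact fun _ => ⟨1, one_mem _, c4_one⟩
      | cons n l ih =>
        intro hl
        obtain ⟨a, ha, ea⟩ := hspan n (hl n List.mem_cons_self)
        obtain ⟨b, hb, eb⟩ := ih fun m hm => hl m (List.mem_cons_of_mem _ hm)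
        exact ⟨a * b, mul_mem ha hb, by
          rw [c4_mul (hU.1 ha).1 (hU.1 hb).1, ea, eb, List.map_cons, List.sum_cons]⟩
    intro v
    rw [← Finset.univ_sum_single v]
    refine Finset.sum_induction _ (fun w => ∃ q ∈ U, c4 q = w) ?_ ⟨1, one_mem _, c4_one⟩ fun j _ => ?_
    · rintro _ _ ⟨a, ha, rfl⟩ ⟨b, hb, rfl⟩
      exact ⟨a * b, mul_mem ha hb, c4_mul (hU.1 ha).1 (hU.1 hb).1⟩
    · rcases (by decide : ∀ c : ZMod 2, c = 0 ∨ c = 1) (v j) with h | h
      · exact ⟨1, one_mem _, by rw [c4_one, h, Pi.single_zero]⟩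
      · obtain ⟨l, hl, e⟩ := span_cover j
        rw [h, ← e]
        exact hlist l fun m hm => (List.mem_sublists.1 hl).subset hm
  intro q
  obtain ⟨g, hg, e⟩ := hsum (c4 (q : Co0))
  have hgQ := (hU.1 hg).1
  have hqU : (q : Co0) ∈ U := by
    rcases c4_eq_zero (mul_mem (inv_mem hgQ) q.2) (by
      rw [c4_mul (inv_mem hgQ) q.2, c4_inv hgQ, e]
      exact funext fun _ => CharTwo.add_self_eq_zero _) with h | h
    · exact inv_mul_eq_one.1 h ▸ hg
    · exact (inv_mul_eq_iff_eq_mul.1 h).symm ▸ mul_mem hg hinv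
  exact (hU.1 hqU).2

theorem HS_le {N : Subgroup S} (hN : N.Normal) (hN' : N ≠ ⊥) : HS ≤ N := by
  haveI := hN
  haveI := isSimpleGroup_omega4
  have hQ := mem_of_qS hN hN'
  have hker : psi.ker ≤ N.comap HS.subtype := by
    rw [← range_qHS]
    rintro _ ⟨q, rfl⟩
    exact hQ q
  have hwit : proj wit ∈ N.comap HS.subtype := by
    show ((proj wit : HS) : S) ∈ N
    have e : fS 0 * qS ⟨qEl witIdx, qEl_mem _⟩ * (fS 0)⁻¹ = ((proj wit : HS) : S) := by
      rw [mul_inv_eq_iff_eq_mul, proj_coe, fS, qS_eq, ← map_mul, ← map_mul]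
      refine congrArg toS (Subtype.ext ?_)
      show fused 0 * qEl witIdx = monoD witD * fused 0
      exact (monoD_mul_eq_iff (md_ok (by norm_num)) (qd_ok _) wit_check.1 (md_ok (by norm_num))).2
        wit_check.2.2.1
    exact e ▸ hN.conj_mem _ (hQ _) _
  rcases ((inferInstance : (N.comap HS.subtype).Normal).map psiOmega psiOmega_surjective).eq_bot_or_eq_top
    with h | h
  · rw [Subgroup.map_eq_bot_iff, ker_psiOmega] at h
    have := h hwit
    rw [MonoidHom.mem_ker, psi_proj] at this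
    exact absurd this theta_wit
  · have h2 := congrArg (Subgroup.comap psiOmega) h
    rw [Subgroup.comap_map_eq_self (by rwa [ker_psiOmega]), Subgroup.comap_top] at h2
    intro x hx
    exact (h2.symm ▸ Subgroup.mem_top (⟨x, hx⟩ : HS) : (⟨x, hx⟩ : HS) ∈ N.comap HS.subtype)

/-- The extraspecial subgroup in the section. -/
noncomputable def QSub : Subgroup S := qS.range

theorem zc_QSub : LargeExtraspecial.zc QSub = Subgroup.zpowers zS := by
  refine le_antisymm (fun x hx => ?_) (Subgroup.zpowers_le.2 ?_)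
  · obtain ⟨⟨q, rfl⟩, h⟩ := LargeExtraspecial.mem_zc.1 hx
    have h0 : c4 (q : Co0) = 0 := funext fun k => com_of_comm (by
      have h1 := h (qS ⟨qEl (bIdx (dual4 k)), qEl_mem _⟩) ⟨_, rfl⟩
      rw [← map_mul, ← map_mul] at h1
      exact (congrArg Subtype.val (qS_injective h1)).symm)
    rcases c4_eq_zero q.2 h0 with e | e
    · rw [show q = 1 from Subtype.ext e, map_one]; exact one_mem _
    · rw [show q = ⟨inv0, inv0_mem_QS⟩ from Subtype.ext e, qS_inv0]; exact Subgroup.mem_zpowers _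
  · refine LargeExtraspecial.mem_zc.2 ⟨⟨_, qS_inv0⟩, ?_⟩
    rintro _ ⟨q, rfl⟩
    rw [← qS_inv0, ← map_mul, ← map_mul]
    exact congrArg qS (Subtype.ext (comm_inv_of_mem q.2))

theorem centralizer_QSub : Subgroup.centralizer (QSub : Set S) = LargeExtraspecial.zc QSub := by
  refine le_antisymm (fun x hx => ?_) (fun x hx =>
    Subgroup.mem_centralizer_iff.2 (LargeExtraspecial.mem_zc.1 hx).2)
  have hc := Subgroup.mem_centralizer_iff.1 hx
  have hxH : x ∈ HS := Subgroup.mem_centralizer_singleton_iff.2 (hc zS ⟨_, qS_inv0⟩).symm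
  have hm : (⟨x, hxH⟩ : HS) ∈ psi.ker := centralizer_Qz_le (Subgroup.mem_centralizer_iff.2 fun r hr => by
    obtain ⟨q, rfl⟩ : r ∈ qHS.range := range_qHS ▸ hr
    exact Subtype.ext (hc _ ⟨q, rfl⟩))
  obtain ⟨q, e⟩ : (⟨x, hxH⟩ : HS) ∈ qHS.range := range_qHS ▸ hm
  exact LargeExtraspecial.mem_zc.2 ⟨⟨q, congrArg Subtype.val e⟩, hc⟩

theorem isSimpleGroup_S : IsSimpleGroup S := by
  haveI : Nontrivial S := ⟨⟨zS, 1, fun h => by
    have := orderOf_zS
    rw [h, orderOf_one] at this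
    norm_num at this⟩⟩
  refine ⟨fun N hN => or_iff_not_imp_left.2 fun hN' => ?_⟩
  haveI := hN
  haveI : Fact (Nat.Prime 2) := ⟨Nat.prime_two⟩
  have hH := HS_le hN hN'
  have hQN : QSub ≤ N := by rintro _ ⟨q, rfl⟩; exact mem_of_qS hN hN' q
  have hQe : Cfsg.IsExtraspecial 2 ↥QSub :=
    LargeExtraspecial.isExtraspecial_congr (MonoidHom.ofInjective qS_injective) isExtraspecial_QS
  obtain ⟨P, hP⟩ := IsPGroup.exists_le_sylow (hQe.1.1.comap_subtype (K := N))
  set T : Subgroup S := (P : Subgroup N).map N.subtype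
  have hQT : QSub ≤ T := fun x hx => ⟨⟨x, hQN hx⟩, hP (Subgroup.mem_comap.mpr hx), rfl⟩
  have hzT := (LargeExtraspecial.center_sylow_eq hQe centralizer_QSub (T := T)
    (P.isPGroup'.map _) hQT).trans zc_QSub
  have hle : Subgroup.normalizer (T : Set S) ≤ N :=
    (LargeExtraspecial.normalizer_le_centralizer hzT zS_mul_self).trans hH
  rw [eq_top_iff, ← Sylow.normalizer_sup_eq_top P]
  exact sup_le hle le_rfl

end Cfsg.Agent.J2Section
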